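import Groth.Agent.H28NT.Connectedness
import Groth.Agent.H28Vert.GeomConnAux
import Groth.Agent.H28Vert.Chain
import Groth.Agent.H28Vert.BaseSeq
import Groth.Agent.H10Coh.Serre

/-!
# Connectedness of divisors and the first cohomology of their ideals
-/

set_option autoImplicit false
set_option linter.style.haveILetI false
universe u

open CategoryTheory CategoryTheory.Limits AlgebraicGeometry Opposite TopologicalSpace

namespace Groth.Agent.H28Surf

variable {k : Type u} [Field k]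

/-- Functions on a connected reduced proper scheme over an algebraically closed field are constants. -/
theorem surjective_toGlobal [IsAlgClosed k] {D : Scheme.{u}} (g : D ⟶ Spec (CommRingCat.of k)) [IsProper g]
    [ConnectedSpace D] [IsReduced D] : Function.Surjective (Coh.toGlobal g) := by
  classical
  let ψ : k →+* Γ(D, ⊤) := Coh.toGlobal g
  suffices h : ∀ a : Γ(D, ⊤), ∃ c, ψ c = a from h
  intro a
  letI : Algebra k Γ(D, ⊤) := ψ.toAlgebra
  haveI : FiniteDimensional k Γ(D, ⊤) := H28Vert.finite_toGlobal_of_isProper g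
  have hint : _root_.IsIntegral k (a : Γ(D, ⊤)) := Algebra.IsIntegral.isIntegral _
  let m := minpoly k (a : Γ(D, ⊤))
  let r := m.roots.toFinset
  have hspl : m.Splits := IsAlgClosed.splits m
  have h0 : ∃ N : ℕ, (∏ γ ∈ r, ((a : Γ(D, ⊤)) - ψ γ)) ^ N = 0 := by
    refine ⟨m.roots.card + 1, ?_⟩
    have hm : (m.roots.map fun γ => (a : Γ(D, ⊤)) - ψ γ).prod = 0 := by
      have h := minpoly.aeval k (a : Γ(D, ⊤))
      rw [show Polynomial.aeval (a : Γ(D, ⊤)) m = Polynomial.eval₂RingHom ψ a m from rfl,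
        hspl.eq_prod_roots_of_monic (minpoly.monic hint), map_multiset_prod, Multiset.map_map] at h
      simpa [Function.comp_def] using h
    have hdvd : (m.roots.map fun γ => (a : Γ(D, ⊤)) - ψ γ).prod ∣
        (∏ γ ∈ r, ((a : Γ(D, ⊤)) - ψ γ)) ^ (m.roots.card + 1) := by
      rw [Finset.prod_multiset_map_count, ← Finset.prod_pow]
      exact Finset.prod_dvd_prod_of_dvd _ _ fun γ _ =>
        pow_dvd_pow _ ((Multiset.count_le_card γ _).trans (Nat.le_succ _))
    rwa [hm, zero_dvd_iff] at hdvd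
  obtain ⟨N, hN⟩ := h0
  have hprod : ∏ γ ∈ r, ((a : Γ(D, ⊤)) - ψ γ) = 0 := IsReduced.eq_zero _ ⟨N, hN⟩
  have hval : ∀ z : D, ∃ γ ∈ r, z ∉ D.basicOpen ((a : Γ(D, ⊤)) - ψ γ) := fun z => by
    let e : Γ(D, ⊤) →+* D.residueField z := (D.residue z).hom.comp (D.presheaf.germ ⊤ z trivial).hom
    have h0 := congrArg e hprod
    rw [map_zero, map_prod, Finset.prod_eq_zero_iff] at h0
    obtain ⟨γ, hγ, h⟩ := h0
    refine ⟨γ, hγ, fun hz => ?_⟩
    rw [Scheme.mem_basicOpen_top, ← IsLocalRing.residue_ne_zero_iff_isUnit] at hz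
    exact hz h
  obtain ⟨z₀⟩ : Nonempty D := inferInstance
  obtain ⟨α, hα, hz₀⟩ := hval z₀
  refine ⟨α, ?_⟩
  have hbot : D.basicOpen ((a : Γ(D, ⊤)) - ψ α) = ⊥ := by
    refine eq_bot_iff.2 fun z hz => ?_
    obtain ⟨β, hβ, hzβ⟩ := hval z
    have := H28Vert.eq_of_values ψ (a : Γ(D, ⊤)) r hprod hα hβ ⟨z₀, hz₀⟩ ⟨z, hzβ⟩
    exact absurd hz (this ▸ hzβ)
  exact (sub_eq_zero.1 ((basicOpen_eq_bot_iff _).1 hbot)).symm

/-- A scheme whose functions come from a field is preconnected. -/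
theorem preconnectedSpace_of_surjective {D : Scheme.{u}} (ψ : k →+* Γ(D, ⊤)) (hψ : Function.Surjective ψ) :
    PreconnectedSpace D := by
  classical
  refine preconnectedSpace_iff_clopen.2 fun s hs => ?_
  by_contra hne
  push Not at hne
  let U : Fin 2 → D.Opens := ![⟨s, hs.2⟩, ⟨sᶜ, hs.1.isOpen_compl⟩]
  have hdisj : ∀ i j, i ≠ j → U i ⊓ U j = ⊥ := by
    intro i j hij
    refine eq_bot_iff.2 fun x hx => ?_
    fin_cases i <;> fin_cases j <;> first
      | exact absurd rfl hij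
      | exact (hx.2 hx.1).elim
      | exact (hx.1 hx.2).elim
  let sf : ∀ i, Γ(D, U i) := fun i => if i = 0 then 1 else 0
  obtain ⟨e, he, -⟩ := D.sheaf.existsUnique_gluing' U ⊤ (fun i => homOfLE le_top)
    (fun x _ => by
      by_cases hx : x ∈ s
      · exact Opens.mem_iSup.2 ⟨0, hx⟩
      · exact Opens.mem_iSup.2 ⟨1, hx⟩)
    sf (fun i j => by
      by_cases hij : i = j
      · subst hij; rfl
      · refine TopCat.Sheaf.eq_of_locally_eq' D.sheaf (fun e : PEmpty.{u + 1} => e.elim) _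
          (fun e => e.elim) ?_ _ _ fun e => e.elim
        intro z hz
        exact ((hdisj i j hij).le hz).elim)
  obtain ⟨c, hc⟩ := hψ e
  obtain ⟨x, hx⟩ := hne.1
  obtain ⟨y, hy⟩ := (Set.ne_univ_iff_exists_notMem _).1 hne.2
  have h1 : D.presheaf.germ ⊤ x trivial (ψ c) = 1 := by
    have h := congrArg (D.presheaf.germ (U 0) x hx) (he 0)
    rw [← hc] at h
    exact (TopCat.Presheaf.germ_res_apply _ _ _ _ _).symm.trans (h.trans (map_one _))
  have h2 : D.presheaf.germ ⊤ y trivial (ψ c) = 0 := by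
    have h := congrArg (D.presheaf.germ (U 1) y hy) (he 1)
    rw [← hc] at h
    exact (TopCat.Presheaf.germ_res_apply _ _ _ _ _).symm.trans (h.trans (map_zero _))
  by_cases hc0 : c = 0
  · rw [hc0, map_zero, map_zero] at h1
    exact zero_ne_one h1
  · have hu : IsUnit (D.presheaf.germ ⊤ y trivial (ψ c)) := ((Ne.isUnit hc0).map ψ).map _
    rw [h2] at hu
    exact not_isUnit_zero hu

variable {X : Scheme.{u}} (I : X.IdealSheafData)

theorem surjective_appTop_of_Hm (h : Function.Surjective (LeadFF.Hm (ClSub.toSubscheme I) 0)) :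
    Function.Surjective I.subschemeι.appTop := by
  intro b
  obtain ⟨x, hx⟩ := h ((H10Coh.HH0Equiv (ClSub.quotMod I)).symm b)
  obtain ⟨a, ha⟩ : ∃ a : Γ(Coh.structureModule X, ⊤),
      (ClSub.toSubscheme I).app ⊤ a = (show Γ(ClSub.quotMod I, ⊤) from b) := by
    refine ⟨H10Coh.HH0Equiv (Coh.structureModule X) x, ?_⟩
    rw [← H28NT.HH0Equiv_map (ClSub.toSubscheme I) x, hx]
    exact (H10Coh.HH0Equiv (ClSub.quotMod I)).apply_symm_apply _
  exact ⟨a, ha⟩

theorem Hm_surjective_of_appTop (h : Function.Surjective I.subschemeι.appTop) :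
    Function.Surjective (LeadFF.Hm (ClSub.toSubscheme I) 0) := by
  intro y
  obtain ⟨a, ha⟩ : ∃ a : Γ(Coh.structureModule X, ⊤),
      (ClSub.toSubscheme I).app ⊤ a = H10Coh.HH0Equiv (ClSub.quotMod I) y :=
    h (H10Coh.HH0Equiv (ClSub.quotMod I) y)
  refine ⟨(H10Coh.HH0Equiv (Coh.structureModule X)).symm a, (H10Coh.HH0Equiv _).injective ?_⟩
  refine (H28NT.HH0Equiv_map (ClSub.toSubscheme I) _).trans ?_
  rw [AddEquiv.apply_symm_apply]
  exact ha

theorem surjective_of_subsingleton (h : Subsingleton (Coh.HH X (ClSub.idealMod I) 1)) :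
    Function.Surjective (LeadFF.Hm (ClSub.toSubscheme I) 0) := by
  haveI := H10Coh.epi_toSubscheme I
  have hS' := (H10Coh.shortExact_kernel (ClSub.toSubscheme I)).map_of_exact (H10Coh.shF X)
  intro z
  have h1 : ((z.comp hS'.extClass (zero_add 1) : Coh.HH X (ClSub.idealMod I) 1)) = 0 := h.elim _ _
  obtain ⟨t, ht⟩ := Abelian.Ext.covariant_sequence_exact₃ _ hS' z (zero_add 1) h1
  exact ⟨t, ht⟩

theorem subsingleton_of_surjective (h1 : Subsingleton (Coh.HH X (Coh.structureModule X) 1))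
    (h : Function.Surjective (LeadFF.Hm (ClSub.toSubscheme I) 0)) :
    Subsingleton (Coh.HH X (ClSub.idealMod I) 1) := by
  haveI := H10Coh.epi_toSubscheme I
  have hS' := (H10Coh.shortExact_kernel (ClSub.toSubscheme I)).map_of_exact (H10Coh.shF X)
  refine subsingleton_of_forall_eq 0 fun x => ?_
  obtain ⟨z, hz⟩ := Abelian.Ext.covariant_sequence_exact₁ _ hS' x (h1.elim _ _) (zero_add 1)
  obtain ⟨t, ht⟩ := h z
  rw [← hz, ← ht]
  exact H28Vert.ext_g_comp_extClass hS' t

end Groth.Agent.H28Surf
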