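import Groth.Agent.H28Surf.Cycle

/-!
# Sections of twists by multiples of a negative curve
-/

set_option autoImplicit false
set_option linter.style.haveILetI false
set_option linter.unusedSectionVars false
set_option backward.isDefEq.respectTransparency.types false
universe u

open CategoryTheory CategoryTheory.Limits AlgebraicGeometry Opposite TopologicalSpace

namespace Groth.Agent.H28Surf

open Groth.Agent.H28Int

attribute [local instance 10000] H10Coh.hasSheafifyAb H10Coh.hasWeakSheafifyAb H10Coh.hasExtAb H10Coh.enoughInjAb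

variable {X : Scheme.{u}} (k : Type u) [Field k] [X.Over (Spec (CommRingCat.of k))]

set_option backward.isDefEq.respectTransparency false in
theorem hhlin_injective {S : ShortComplex X.Modules} (hS : S.ShortExact) :
    Function.Injective (Canon.HHlin k S.f 0) := by
  haveI : Mono ((SheafOfModules.toSheaf X.ringCatSheaf).map S.f) := (H10Coh.shortExact_sh hS).mono_f
  rw [injective_iff_map_eq_zero]
  intro x hx
  change x.comp (Abelian.Ext.mk₀ _) (add_zero 0) = 0 at hx
  obtain ⟨φ, rfl⟩ := (Abelian.Ext.mk₀_bijective _ _).2 x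
  rw [Abelian.Ext.mk₀_comp_mk₀, ← Abelian.Ext.mk₀_zero] at hx
  have h2 := (Abelian.Ext.mk₀_bijective _ _).1 hx
  rw [show φ = 0 from zero_of_comp_mono _ h2, Abelian.Ext.mk₀_zero]

variable [IsProper (X ↘ Spec (CommRingCat.of k))] [Smooth (X ↘ Spec (CommRingCat.of k))] [IsIntegral X]

include k

theorem isEffCartier_pow (hdim : topologicalKrullDim X = 2) {C : X.IdealSheafData} (hC : IsCurve C) (j : ℕ) :
    FGA.IsEffCartier (C ^ j) := by
  rw [← Multiset.prod_replicate]
  exact isEffCartier_prod k hdim _ fun D hD => (Multiset.eq_of_mem_replicate hD).symm ▸ hC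

theorem dot_pow_left (hdim : topologicalKrullDim X = 2) {C : X.IdealSheafData} (hC : IsCurve C) (j : ℕ)
    {B : X.IdealSheafData} (hB : FGA.IsEffCartier B) : dot k (C ^ j) B = (j : ℤ) * dot k C B := by
  rw [← Multiset.prod_replicate, dot_prod_left k hdim (fun D hD => (Multiset.eq_of_mem_replicate hD).symm ▸ hC) hB,
    Multiset.map_replicate, Multiset.sum_replicate, nsmul_eq_mul]

/-- The restriction sequence of a twist. -/
theorem exists_restrict_seq (A : X.IdealSheafData) {L : X.Modules} (hL : PicF.IsInvertible L) :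
    ∃ S : ShortComplex X.Modules, S.ShortExact ∧ S.X₁ = CohB1.tensorMod (ClSub.idealMod A) L ∧
      S.X₂ = CohB1.tensorMod (Coh.structureModule X) L ∧ S.X₃ = CohB1.tensorMod (ClSub.quotMod A) L := by
  haveI := H10Coh.epi_toSubscheme A
  haveI : Mono (ClSub.idealModι A) := inferInstanceAs (Mono (kernel.ι _))
  let S : ShortComplex X.Modules := ShortComplex.mk (ClSub.idealModι A) (ClSub.toSubscheme A) (kernel.condition _)
  haveI : Mono S.f := ‹_›
  have hS : S.ShortExact := ⟨ShortComplex.exact_kernel _⟩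
  exact ⟨S.map ((DCoh.tensorBi (X := X)).flip.obj L), H28Int.tensor_shortExact hS hL, rfl, rfl, rfl⟩

/-- Cutting off a negative curve does not change sections. -/
theorem finrank_twist_pow (hdim : topologicalKrullDim X = 2) {C : X.IdealSheafData} (hC : IsCurve C) (s : ℕ)
    {L : X.Modules} (hL : PicF.IsInvertible L) (hs : 0 < s) (hneg : ∀ j : ℕ, j < s → degOn k C L - (j : ℤ) * dot k C C < 0) :
    Module.finrank k (Coh.HH X (CohB1.tensorMod L (ClSub.idealMod (C ^ s))) 0) = Module.finrank k (Coh.HH X L 0) := by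
  haveI := H28Int.isNoetherian k (X := X)
  have hCe := isEffCartier_curve k hdim hC
  have hsub : ∀ j < s, Subsingleton (Coh.HH X (CohB1.tensorMod (ClSub.quotMod (C ^ (j + 1))) L) 0) := by
    intro j
    induction j with
    | zero =>
      intro h0
      rw [zero_add, pow_one]
      refine subsingleton_zero_of_neg k hC hL ?_
      have := hneg 0 h0
      simpa using this
    | succ j ih =>
      intro hj
      have hA := isEffCartier_pow k hdim hC (j + 1)
      obtain ⟨S, hS, ⟨e₁⟩, e₂, e₃⟩ := exists_seq k C (C ^ (j + 1)) hCe hA hL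
      rw [pow_succ, ← e₂]
      refine subsingleton_HH_ext k hS 0 ?_ (e₃ ▸ ih (by omega))
      have hI := isInvertible_ideal k hA
      have h := subsingleton_zero_of_neg k hC (H11Ample.isInvertible_tensor hI hL) (by
        rw [degOn_tensor k hdim hCe hI hL, degOn_ideal k hdim hA hCe, dot_pow_left k hdim hC (j + 1) hCe]
        have := hneg (j + 1) hj
        omega)
      exact (H29RR.hhIso (k := k) e₁ 0).toEquiv.subsingleton
  obtain ⟨S, hS, e₁, e₂, e₃⟩ := exists_restrict_seq k (C ^ s) hL
  have h₁ : Coh.IsCoh S.X₁ := e₁ ▸ H11Ample.isCoh_tensor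
    (H11Ample.isCoh_of_isInvertible (isInvertible_ideal k (isEffCartier_pow k hdim hC s))) hL
  have h₂ : Coh.IsCoh S.X₂ := e₂ ▸ H11Ample.isCoh_tensor (H10Coh.isCoh_structureModule' X) hL
  have h₃ : Coh.IsCoh S.X₃ := e₃ ▸ H11Ample.isCoh_tensor (isCoh_quot k _) hL
  have hle := finrank_zero_le k hS h₁ h₂ h₃
  haveI := H10Coh.finite_HH_proper k X _ h₂ 0
  have hge := LinearMap.finrank_le_finrank_of_injective (hhlin_injective k hS)
  haveI : Subsingleton (Coh.HH X S.X₃ 0) := by
    obtain ⟨t, rfl⟩ : ∃ t, s = t + 1 := ⟨s - 1, by omega⟩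
    exact e₃ ▸ hsub t (Nat.lt_succ_self t)
  rw [Module.finrank_zero_of_subsingleton (R := k) (M := Coh.HH X S.X₃ 0)] at hle
  rw [← (H29RR.hhIso (k := k) (H10Coh.Tw.leftUnitIso L) 0).finrank_eq,
    (H29RR.hhIso (k := k) (H10Coh.Tw.commIso L (ClSub.idealMod (C ^ s))) 0).finrank_eq, ← e₁, ← e₂]
  omega

end Groth.Agent.H28Surf
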