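import Groth.Agent.H11Proj.PnGlobal

/-!
# High powers of ample modules on proper schemes over rings give closed immersions into `P^n_R`
-/

set_option autoImplicit false
set_option linter.style.haveILetI false
set_option backward.isDefEq.respectTransparency.types false

noncomputable section

universe u

open CategoryTheory CategoryTheory.Limits AlgebraicGeometry Opposite TopologicalSpace CohB1
open Groth.Agent.H11Tilde Groth.Agent.H11Ample

namespace Groth.Agent.H28Surf.Embed

variable {X : Scheme.{u}} {R : Type u} [CommRing R]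

/-- A high power of an ample module is the pullback of `O(1)` along a closed immersion. -/
theorem eventually_closedImmersion (q : X ⟶ Spec (CommRingCat.of R)) [IsProper q] {L : X.Modules}
    (hA : CohB1.IsAmple L) :
    ∃ m₀ : ℕ, ∀ m, m₀ ≤ m → ∃ (n : ℕ) (r : X ⟶ ProjSpace n R), IsClosedImmersion r ∧
      r ≫ ProjSpace.toSpec n R = q ∧
      Nonempty ((Scheme.Modules.pullback r).obj (Twist.twistProjSpace n R 1) ≅ CohB1.tensorPow L m) := by
  obtain ⟨m₀, hm₀⟩ := H11Proj.eventually_globalVA q hA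
  refine ⟨m₀, fun m hm => ?_⟩
  obtain ⟨n, v, hv⟩ := hm₀ m hm
  let M := CohB1.tensorPow L m
  obtain ⟨r, hr, hτ, hpre, hrat⟩ := H11Ample.exists_toPn q
    (H11Ample.isInvertible_tensorPow (H11Ample.isAmple_iff.1 hA).1 m) v hv.cover
  refine ⟨n, r, ?_, hr, hτ⟩
  let D : Fin (n + 1) → (ProjSpace n R).Opens := fun i => Proj.basicOpen (polyGrading n R) (MvPolynomial.X i)
  refine IsZariskiLocalAtTarget.of_iSup_eq_top (P := @IsClosedImmersion) D ?_ fun i => ?_
  · exact H11Proj.ProjSpace.iSup_basicOpen n R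
  have haff : IsAffineOpen (gen M (v i)) := by
    have := hv.affine ⊤ (isAffineOpen_top _) i
    rwa [Scheme.Hom.preimage_top, inf_top_eq] at this
  have hDaff : IsAffineOpen (D i) :=
    Proj.isAffineOpen_basicOpen (polyGrading n R) _ (H11Ample.X_mem i) one_pos
  refine isClosedImmersion_morphismRestrict hDaff ((hpre i).symm ▸ haff) ?_
  intro b
  have hGle : r ⁻¹ᵁ D i ≤ gen M (v i) ⊓ q ⁻¹ᵁ ⊤ := le_inf (hpre i).le le_top
  have hGle' : gen M (v i) ⊓ q ⁻¹ᵁ ⊤ ≤ r ⁻¹ᵁ D i := inf_le_left.trans (hpre i).ge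
  let ρ' := X.presheaf.map (homOfLE hGle').op
  have hρ : Function.Injective ρ' := fun a a' h => by
    haveI : IsIso (homOfLE hGle') := homOfLE_isIso_of_eq _ (le_antisymm hGle' hGle)
    exact (ConcreteCategory.bijective_of_isIso ρ').1 h
  suffices h : ρ' b ∈ ((r.app (D i)) ≫ ρ').hom.range by
    obtain ⟨a, ha⟩ := h
    exact ⟨a, hρ ha⟩
  refine (Subring.closure_le.2 ?_) ((hv.surj ⊤ (isAffineOpen_top _) i).ge (Subring.mem_top _))
  rintro c (⟨a, rfl⟩ | ⟨l, hl⟩)
  · refine ⟨(ProjSpace.toSpec n R).appLE ⊤ (D i) le_top a, ?_⟩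
    subst hr
    rw [← Scheme.Hom.appLE_comp_appLE r (ProjSpace.toSpec n R) ⊤ (D i) _ le_top hGle']
    rfl
  · obtain ⟨ρ, hρl⟩ := hrat i l
    refine ⟨ρ, ?_⟩
    have h3 := congrArg (M.presheaf.map (homOfLE hGle').op) hρl
    erw [H10Coh.mres_mres, Scheme.Modules.map_smul, H10Coh.mres_mres, hl] at h3
    exact (((isGen_gen (v i)).bijective inf_le_left).1
      (a₁ := c) (a₂ := ρ' (r.app (D i) ρ)) (by beta_reduce; erw [H10Coh.mres_mres]; exact h3)).symm

end Groth.Agent.H28Surf.Embed
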