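import Groth.Agent.H28Surf.CurveInter
import Groth.Agent.H28Vert.Cartier
import Groth.Agent.H28Vert.IdealProd
import Groth.Agent.H28Contr.RelMin
import Groth.Agent.H22Alg.RedIntegral

/-!
# Effective divisors on smooth surfaces as sums of curves
-/

set_option autoImplicit false
set_option linter.style.haveILetI false
set_option backward.isDefEq.respectTransparency.types false
universe u

open CategoryTheory CategoryTheory.Limits AlgebraicGeometry Opposite TopologicalSpace
open Groth.Agent.H8Props.FieldDim (cdim)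

namespace Groth.Agent.H28Surf

open Groth.Agent.H28Int

variable {X : Scheme.{u}}

/-- An integral closed subscheme of dimension one. -/
structure IsCurve (C : X.IdealSheafData) : Prop where
  int : IsIntegral C.subscheme
  dim : topologicalKrullDim (C.support : Set X) = 1

theorem IsCurve.closure_gen {C : X.IdealSheafData} (hC : IsCurve C) :
    haveI := hC.int
    closure {C.subschemeι (genericPoint C.subscheme)} = (C.support : Set X) := by
  haveI := hC.int
  exact (LeadDev.range_eq_closure C.subschemeι (ξ := C.subschemeι (genericPoint C.subscheme)) rfl).symm.trans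
    C.range_subschemeι

/-- The maximal ideal is the stalk of the ideal of an integral subscheme at its generic point. -/
theorem stalkId_gen [IsLocallyNoetherian X] (C : X.IdealSheafData) [IsIntegral C.subscheme] (V : X.affineOpens)
    (hx : C.subschemeι (genericPoint C.subscheme) ∈ V.1) :
    H28Vert.stalkId C V hx = IsLocalRing.maximalIdeal _ := by
  let j := C.subschemeι
  let η := genericPoint C.subscheme
  have h := (H17.ker_stalkMap_eq_map j V.2 η hx).symm
  rw [← Scheme.Hom.ker_apply] at h
  rw [H28Vert.stalkId]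
  refine (congrArg (fun I : X.IdealSheafData => (I.ideal V).map (X.presheaf.germ V.1 _ hx).hom)
    C.ker_subschemeι).symm.trans (h.trans (IsLocalRing.eq_maximalIdeal ?_))
  letI : Field (C.subscheme.presheaf.stalk η) := inferInstanceAs (Field C.subscheme.functionField)
  exact RingHom.ker_isMaximal_of_surjective (j.stalkMap η).hom (j.stalkMap_surjective η)

theorem stalkId_top [IsLocallyNoetherian X] (I : X.IdealSheafData) {y : X} (V : X.affineOpens) (hy : y ∈ V.1)
    (h : y ∉ (I.support : Set X)) : H28Vert.stalkId I V hy = ⊤ :=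
  H29Blow.map_germ_eq_top_of_notMem_support _ y V hy h

/-- In a local domain with principal maximal ideal a nonzero element is a power of a uniformiser. -/
theorem exists_pow_span {A : Type u} [CommRing A] [IsDomain A] [IsLocalRing A] [IsNoetherianRing A] {g : A}
    (hg : g ≠ 0) (hpr : (IsLocalRing.maximalIdeal A).IsPrincipal) :
    ∃ e : ℕ, Ideal.span {g} = IsLocalRing.maximalIdeal A ^ e := by
  obtain ⟨π, hπ⟩ := hpr
  have hπu : ¬ IsUnit π := fun h => (IsLocalRing.maximalIdeal.isMaximal A).ne_top
    (hπ.trans (Ideal.span_singleton_eq_top.2 h))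
  obtain ⟨n, a, hna, rfl⟩ := WfDvdMonoid.max_power_factor' hg hπu
  refine ⟨n, ?_⟩
  have ha : IsUnit a := by
    by_contra h
    have hm : a ∈ IsLocalRing.maximalIdeal A := (IsLocalRing.mem_maximalIdeal _).2 h
    rw [hπ] at hm
    exact hna (Ideal.mem_span_singleton.1 hm)
  rw [hπ, Ideal.submodule_span_eq, Ideal.span_singleton_pow]
  exact Ideal.span_singleton_mul_right_unit ha _

variable (k : Type u) [Field k] [X.Over (Spec (CommRingCat.of k))] [IsProper (X ↘ Spec (CommRingCat.of k))]
  [Smooth (X ↘ Spec (CommRingCat.of k))] [IsIntegral X]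

include k in
theorem isEffCartier_curve (hdim : topologicalKrullDim X = 2) {C : X.IdealSheafData} (hC : IsCurve C) :
    FGA.IsEffCartier C := by
  haveI := hC.int
  haveI := H28Int.isNoetherian k (X := X)
  exact (S8914.result C).1 (isInvertible_idealMod k hdim C hC.dim)

include k in
theorem isEffCartier_prod (hdim : topologicalKrullDim X = 2) (M : Multiset X.IdealSheafData)
    (hM : ∀ C ∈ M, IsCurve C) : FGA.IsEffCartier M.prod := by
  induction M using Multiset.induction with
  | empty => rw [Multiset.prod_zero]; exact H29Blow.isEffCartierIdeal_top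
  | cons C M ih =>
    rw [Multiset.prod_cons]
    exact H28Vert.isEffCartierIdeal_mul (isEffCartier_curve k hdim (hM C (Multiset.mem_cons_self C M)))
      (ih fun D hD => hM D (Multiset.mem_cons_of_mem hD))

theorem genericPoint_notMem_of_isEffCartier {Z : X.IdealSheafData} (hZ : FGA.IsEffCartier Z) :
    genericPoint X ∉ (Z.support : Set X) := by
  intro h
  obtain ⟨U, hU, a, ha, hI⟩ := hZ (genericPoint X)
  rw [SetLike.mem_coe, Scheme.IdealSheafData.mem_support_iff_of_mem hU, hI, Scheme.zeroLocus_span,
    Scheme.zeroLocus_singleton, Set.mem_compl_iff, SetLike.mem_coe] at h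
  haveI : Nonempty ↥U.1 := ⟨⟨_, hU⟩⟩
  have hb : X.basicOpen a ≠ ⊥ := fun hb => nonZeroDivisors.ne_zero ha ((basicOpen_eq_bot_iff a).1 hb)
  obtain ⟨z, hz⟩ := Set.nonempty_iff_ne_empty.2 fun e : ((X.basicOpen a : X.Opens) : Set X) = ∅ =>
    hb (Opens.ext e)
  exact h ((genericPoint_specializes z).mem_open (X.basicOpen a).2 hz)

include k in
/-- An effective divisor on a smooth surface is a sum of curves. -/
theorem exists_multiset (hdim : topologicalKrullDim X = 2) (Z : X.IdealSheafData) (hZ : FGA.IsEffCartier Z) :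
    ∃ M : Multiset X.IdealSheafData, (∀ C ∈ M, IsCurve C) ∧ M.prod = Z := by
  classical
  haveI := H28Int.isNoetherian k (X := X)
  let f := X ↘ Spec (CommRingCat.of k)
  haveI hreg : ∀ x : X, IsRegularLocalRing (X.presheaf.stalk x) :=
    fun x => H19Grp.isRegularLocalRing_stalk_of_smooth f x
  haveI hdom : ∀ x : X, IsDomain (X.presheaf.stalk x) := fun x => inferInstance
  let Y : Set X := {ξ ∈ (Z.support : Set X) | ringKrullDim (X.presheaf.stalk ξ) ≤ 1}
  have hYf : Y.Finite := H28Contr.finite_codimOne Z.support.2 (genericPoint_notMem_of_isEffCartier hZ)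
  have hY1 : ∀ y ∈ Y, ringKrullDim (X.presheaf.stalk y) = 1 := fun y hy => by
    refine le_antisymm hy.2 (le_of_not_gt fun hlt => ?_)
    exact genericPoint_notMem_of_isEffCartier hZ (H28Contr.eq_genericPoint_of_dim_lt_one hlt ▸ hy.1)
  let C : X → X.IdealSheafData := fun y =>
    Scheme.IdealSheafData.vanishingIdeal (⟨closure {y}, isClosed_closure⟩ : Closeds X)
  have hCsupp : ∀ y, ((C y).support : Set X) = closure {y} := fun y => by
    rw [← Scheme.IdealSheafData.range_subschemeι, H17.range_vanishingIdeal_subschemeι]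
    rfl
  have hC : ∀ y ∈ Y, IsCurve (C y) := fun y hy => by
    refine ⟨H22Alg.isIntegral_vanishingIdeal_closure y, ?_⟩
    rw [hCsupp]
    have h := H8Props.FieldDim.localDim_eq_stalk_add_cdim f y
    rw [H8Props.FieldDim.localDim_eq_dim_of_irreducible f y, hdim, hY1 y hy] at h
    exact H8Props.FieldDim.withBot_nat_cancel (m := 1) (n := 1) ((add_comm _ _).trans h.symm)
  have hgenC : ∀ y (hy : y ∈ Y), haveI := (hC y hy).int
      (C y).subschemeι (genericPoint (C y).subscheme) = y := fun y hy => by
    haveI := (hC y hy).int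
    have h := (hC y hy).closure_gen
    rw [hCsupp] at h
    exact (isGenericPoint_def.2 h).eq (isGenericPoint_def.2 rfl)
  have he : ∀ y, ∃ e : ℕ, y ∈ Y → ∀ (V : X.affineOpens) (hyV : y ∈ V.1),
      H28Vert.stalkId Z V hyV = IsLocalRing.maximalIdeal _ ^ e := by
    intro y
    by_cases hy : y ∈ Y
    swap
    · exact ⟨0, fun h => absurd h hy⟩
    obtain ⟨V₀, hV₀, hyV₀, -⟩ := exists_isAffineOpen_mem_and_subset (U := (⊤ : X.Opens)) (x := y) trivial
    obtain ⟨g, hg0, hg⟩ := H28Vert.exists_gen_of_isEffCartierIdeal hZ y ⟨V₀, hV₀⟩ hyV₀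
    have hpr : (IsLocalRing.maximalIdeal (X.presheaf.stalk y)).IsPrincipal := by
      have h1 := IsRegularLocalRing.spanFinrank_maximalIdeal (R := X.presheaf.stalk y)
      rw [hY1 y hy] at h1
      have hfg : (IsLocalRing.maximalIdeal (X.presheaf.stalk y)).FG := IsNoetherian.noetherian _
      have hc : (IsLocalRing.maximalIdeal (X.presheaf.stalk y)).generators.ncard = 1 := by
        rw [Submodule.FG.generators_ncard hfg]; exact_mod_cast h1
      obtain ⟨π, hπ⟩ := Set.ncard_eq_one.1 hc
      exact ⟨π, by rw [← hπ, Submodule.span_generators]⟩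
    obtain ⟨e, he⟩ := exists_pow_span hg0 hpr
    exact ⟨e, fun _ V hyV => by rw [H28Vert.stalkId_congr Z V ⟨V₀, hV₀⟩ hyV hyV₀, hg, he]⟩
  choose e he using he
  let s := hYf.toFinset
  refine ⟨s.val.bind fun y => Multiset.replicate (e y) (C y), fun D hD => ?_, ?_⟩
  · obtain ⟨y, hy, hyD⟩ := Multiset.mem_bind.1 hD
    rw [Multiset.eq_of_mem_replicate hyD]
    exact hC y (hYf.mem_toFinset.1 hy)
  have hp : (s.val.bind fun y => Multiset.replicate (e y) (C y)).prod = ∏ y ∈ s, C y ^ e y := by
    rw [Multiset.prod_bind]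
    exact congrArg Multiset.prod (Multiset.map_congr rfl fun y _ => Multiset.prod_replicate _ _)
  rw [hp]
  have hufd : ∀ x : X, IsDomain (X.presheaf.stalk x) ∧ UniqueFactorizationMonoid (X.presheaf.stalk x) :=
    fun x => ⟨hdom x, H28Alg.ufd_of_regular _⟩
  have hPC : BlowUp.IsEffCartierIdeal (∏ y ∈ s, C y ^ e y) :=
    H28Vert.isEffCartierIdeal_prod s C (fun y hy => isEffCartier_curve k hdim (hC y (hYf.mem_toFinset.1 hy))) e
  refine H28Vert.ext_of_height_one hufd _ _ (fun x V hx => H28Vert.exists_gen_of_isEffCartierIdeal hPC x V hx)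
    (fun x V hx => H28Vert.exists_gen_of_isEffCartierIdeal hZ x V hx) fun z V hz hd => ?_
  rw [H28Vert.stalkId_prod s]
  have hother : ∀ y ∈ s, y ≠ z → H28Vert.stalkId (C y) V hz = 1 := fun y hy hne => by
    rw [Ideal.one_eq_top]
    refine stalkId_top _ V hz fun h => ?_
    rw [hCsupp] at h
    have hlt := H28Contr.ringKrullDim_stalk_lt (specializes_iff_mem_closure.2 h) hne
    rw [hd, hY1 y (hYf.mem_toFinset.1 hy)] at hlt
    exact lt_irrefl _ hlt
  by_cases hzY : z ∈ Y
  · rw [Finset.prod_eq_single z (fun y hy hne => by rw [hother y hy hne, one_pow])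
      (fun h => absurd (hYf.mem_toFinset.2 hzY) h), he z hzY V hz]
    congr 1
    haveI := (hC z hzY).int
    have key : ∀ (w : X) (hw : w ∈ V.1), (C z).subschemeι (genericPoint (C z).subscheme) = w →
        H28Vert.stalkId (C z) V hw = IsLocalRing.maximalIdeal _ := by
      rintro w hw rfl
      exact stalkId_gen (C z) V hw
    exact key z hz (hgenC z hzY)
  · rw [Finset.prod_eq_one fun y hy => by
      rw [hother y hy fun h => hzY (h ▸ hYf.mem_toFinset.1 hy), one_pow]]
    rw [stalkId_top Z V hz fun h => hzY ⟨h, hd.le⟩, Ideal.one_eq_top]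

end Groth.Agent.H28Surf
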