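import Groth.Agent.H28Bertini.Proj
import Groth.Agent.H28Surf.CurveDecomp
import Groth.Agent.H22Alg.ESZInt
import Groth.Agent.H12Pic.PicCurve.Section
import Groth.Agent.H11Ample.Converse
import Groth.Agent.H11Sym.InvertibleInverse
import Groth.Agent.S7862
import Groth.Agent.H28Int.Surface
import Groth.Agent.H4Depth.Regular

/-!
# The smooth hyperplane section of an embedded surface
-/

set_option autoImplicit false
set_option linter.style.haveILetI false
set_option backward.isDefEq.respectTransparency.types false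

noncomputable section

universe u

open CategoryTheory CategoryTheory.Limits AlgebraicGeometry Opposite TopologicalSpace
open Groth.Agent.H11Proj
open Groth.Agent.H8Props.FieldDim (cdim)

namespace Groth.Agent.H28Surf

variable (k : Type u) [Field k] [IsAlgClosed k] {X : Scheme.{u}} [X.Over (Spec (CommRingCat.of k))]
  [IsProper (X ↘ Spec (CommRingCat.of k))] [Smooth (X ↘ Spec (CommRingCat.of k))] [IsIntegral X]

/-- An embedded smooth surface has an integral, smooth curve in the class of its hyperplane module. -/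
theorem exists_hyperplane_curve (hdim : topologicalKrullDim X = 2) {n : ℕ} (ι : X ⟶ CohB1.ProjSpace n k)
    [IsClosedImmersion ι] (hι : ι ≫ CohB1.ProjSpace.toSpec n k = X ↘ Spec (CommRingCat.of k)) :
    ∃ C : X.IdealSheafData, IsCurve C ∧ Smooth (C.subschemeι ≫ (X ↘ Spec (CommRingCat.of k))) ∧
      Nonempty (CohB1.tensorMod (ClSub.idealMod C) (SepPts.L ι) ≅ Coh.structureModule X) := by
  haveI : Smooth (ι ≫ CohB1.ProjSpace.toSpec n k) := hι ▸ ‹Smooth (X ↘ Spec (CommRingCat.of k))›
  haveI := H28Int.isNoetherian k (X := X)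
  obtain ⟨g, hg0, hg⟩ := H28Bertini.exists_poly_proj (k := k) ι
  obtain ⟨c, hc⟩ : ∃ c, MvPolynomial.eval c g ≠ 0 := by
    by_contra h
    push Not at h
    exact hg0 (MvPolynomial.funext fun a => by simpa using h a)
  obtain ⟨hne, hI, hsm⟩ := hg c hc
  set C := (PicF2.zeroScheme (Twist.twistProjSpace n k 1) (H28Bertini.formHom c)).comap ι with hCdef
  let pX := X ↘ Spec (CommRingCat.of k)
  let L := SepPts.L ι
  have hL : PicF.IsInvertible L :=
    (H11Ample.isAmple_pullback_of_isAffineHom ι (H11Ample.isAmple_twistProjSpace n k)).1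
  have hLa : CohB1.IsAmple L := H11Ample.isAmple_pullback_of_isAffineHom ι (H11Ample.isAmple_twistProjSpace n k)
  let gs : Γ(L, ⊤) :=
    ∑ j, (show Γ(X, ⊤) from ProjUP.toGlobal pX (c j)) •
      (show Γ(L, ⊤) from ProjUP.pullSec ι (Twist.twistProjSpace n k 1) (ProjUP.coord n k j))
  let σ : Coh.structureModule X ⟶ L := H11Tilde.homOfGlobal L gs
  let W : Fin (n + 1) → X.affineOpens := fun i => ⟨_, H28Bertini.isAffineOpen_preimage_U ι i⟩
  let e : ∀ i, Γ(L, (W i).1) := fun i => L.presheaf.map (homOfLE (le_top : (W i).1 ≤ ⊤)).op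
    (show Γ(L, ⊤) from ProjUP.pullSec ι (Twist.twistProjSpace n k 1) (ProjUP.coord n k i))
  have hge : ∀ i y (hy : y ∈ (W i).1), L.presheaf.germ _ y hy (e i) = SepPts.gen ι y i := fun i y hy =>
    TopCat.Presheaf.germ_res_apply L.presheaf _ _ _ _
  have he : ∀ i, H11Tilde.IsGen L (e i) := fun i y hy => by
    show Function.Bijective fun r : X.presheaf.stalk y => r • L.presheaf.germ _ y hy (e i)
    rw [hge i y hy]
    exact SepPts.bijective_smul_gen ι hy
  have hs : ∀ i y (hy : y ∈ (W i).1), H28Mero.sGerm L σ y =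
      X.presheaf.germ _ y hy (H28Bertini.linX ι i c) • L.presheaf.germ _ y hy (e i) := by
    intro i y hy
    rw [hge i y hy]
    refine (congrArg (L.presheaf.germ ⊤ y trivial) (H11Ample.val_homOfGlobal gs)).trans ?_
    refine (SepPts.sec_eq hι (i := i) hy c).trans (congrArg (· • _) ?_)
    exact Scheme.Hom.germ_stalkMap_apply ι _ y hy _
  have hz : H12Pic.PicCurve.zeroIdeal L σ hL = C := by
    refine Scheme.IdealSheafData.ext_of_iSup_eq_top W ?_ fun i => ?_
    · refine eq_top_iff.2 fun y _ => ?_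
      obtain ⟨i, hi⟩ := SepPts.exists_chart (ι y)
      exact Opens.mem_iSup.2 ⟨i, hi⟩
    rw [H12Pic.PicCurve.zeroIdeal_ideal L σ hL (W i).2 (he i) (hs i)]
    exact (hI i).symm
  obtain ⟨i₀, hi₀⟩ := SepPts.exists_chart (ι (genericPoint X))
  have hgs : gs ≠ 0 := fun h0 => by
    refine hne i₀ ⟨genericPoint X, hi₀⟩ ?_
    have h1 := hs i₀ _ hi₀
    have h2 : H28Mero.sGerm L σ (genericPoint X) = 0 :=
      (congrArg (L.presheaf.germ ⊤ _ trivial) ((H11Ample.val_homOfGlobal gs).trans h0)).trans (map_zero _)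
    rw [h2] at h1
    have h3 := (he i₀ _ hi₀).1 (a₁ := X.presheaf.germ _ _ hi₀ (H28Bertini.linX ι i₀ c)) (a₂ := 0)
      (h1.symm.trans (zero_smul _ _).symm)
    exact germ_injective_of_isIntegral X _ _ (h3.trans (map_zero _).symm)
  have hσ0 : σ ≠ 0 := fun h0 => hgs (by
    rw [← H11Ample.val_homOfGlobal gs, show H11Tilde.homOfGlobal L gs = 0 from h0]
    rfl)
  have hreg := H28Mero.isRegularSection_of_ne_zero L σ hL hσ0
  have hzs : PicF2.zeroScheme L σ = C := hz ▸ Scheme.IdealSheafData.ext (funext fun V =>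
    (H28Mero.zeroScheme_ideal L σ hL hreg V).trans (H28Mero.germIdealSheaf_ideal _ _ _).symm)
  have hCeff : FGA.IsEffCartier C := fun x => by
    obtain ⟨i, hi⟩ := SepPts.exists_chart (ι x)
    refine ⟨W i, hi, H28Bertini.linX ι i c, ?_, hI i⟩
    haveI : Nonempty (W i).1 := ⟨⟨x, hi⟩⟩
    exact mem_nonZeroDivisors_of_ne_zero (hne i ⟨x, hi⟩)
  haveI hconn : ConnectedSpace C.subscheme := by
    haveI : Mono σ := H22Alg.ESZInt.mono_of_mem_gen hL gs
      (H28Int.Surface.generic_mem_gen hL hgs)
    rw [← hzs]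
    exact H22Alg.ESZInt.connectedSpace pX hdim.ge hLa σ
  haveI : Smooth (C.subschemeι ≫ pX) := by
    have := hsm
    rw [hι] at this
    exact this
  haveI : IsNoetherian C.subscheme := by
    letI : C.subscheme.Over (Spec (CommRingCat.of k)) := ⟨C.subschemeι ≫ pX⟩
    haveI : IsProper (C.subscheme ↘ Spec (CommRingCat.of k)) := inferInstanceAs (IsProper (C.subschemeι ≫ pX))
    exact H28Int.isNoetherian k
  have hint : IsIntegral C.subscheme := S7862.isIntegral_of_connected C.subscheme fun t =>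
    haveI := H19Grp.isRegularLocalRing_stalk_of_smooth (C.subschemeι ≫ pX) t
    H4Depth.isDomain_of_isRegularLocalRing _
  obtain ⟨t⟩ := hconn.toNonempty
  have hmem : C.subschemeι t ∈ (C.support : Set X) := by
    rw [← C.range_subschemeι]; exact ⟨t, rfl⟩
  have hCdim : topologicalKrullDim (C.support : Set X) = 1 := by
    obtain ⟨w, hw, hwd⟩ := exists_point_of_isEffCartier k hdim C hCeff hmem
    refine le_antisymm ?_ (Eq.trans_le (by rw [hwd]; rfl) (H28Int.cdim_le_of_mem C.support.isClosed hw))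
    have hlt := H28Int.dim_lt_of_notMem (ξ := genericPoint X) (C := Set.univ) (S := (C.support : Set X))
      (genericPoint_spec X) (n := 2) (by
        rw [(Homeomorph.Set.univ X).isHomeomorph.topologicalKrullDim_eq, hdim]; rfl)
      C.support.isClosed (fun _ _ => trivial) (genericPoint_notMem_of_isEffCartier hCeff)
    generalize topologicalKrullDim (C.support : Set X) = d at hlt
    induction d with
    | bot => exact bot_le
    | coe e =>
      have h1 : e < ((2 : ℕ) : ℕ∞) := WithBot.coe_lt_coe.1 hlt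
      rw [show ((2 : ℕ) : ℕ∞) = 1 + 1 from rfl] at h1
      exact WithBot.coe_le_coe.2 ((ENat.lt_add_one_iff (by simp)).1 h1)
  have hcurve : IsCurve C := ⟨hint, hCdim⟩
  refine ⟨C, hcurve, inferInstance, ?_⟩
  have hM : PicF.IsInvertible (ClSub.idealMod C) := isInvertible_idealMod k hdim C hCdim
  obtain ⟨N, hN, ⟨eN'⟩⟩ := H11Sym.exists_inverse hM
  let eN := H10Coh.Tw.commIso (ClSub.idealMod C) N ≪≫ eN'
  obtain ⟨τ, hτ, hτreg⟩ := H12Pic.PicCurve.exists_section_of_cartier C hCeff N hN eN
  have hzero : ∀ y, H28Mero.zeroGerm L σ y = H28Mero.zeroGerm N τ y := by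
    intro y
    obtain ⟨V, hV, hyV, -, a, a', ha, hca⟩ := H28Mero.exists_section_coeff L σ hL ⊤ y trivial
    obtain ⟨V', hV', hyV', hle, b, b', hb, hcb⟩ := H28Mero.exists_section_coeff N τ hN V y hyV
    rw [H28Mero.zeroGerm_eq_span L σ (ha y hyV) (hca y hyV), H28Mero.zeroGerm_eq_span N τ (hb y hyV') (hcb y hyV')]
    have h1 := H12Pic.PicCurve.zeroIdeal_ideal N τ hN hV' hb hcb
    have h2 := H12Pic.PicCurve.zeroIdeal_ideal L σ hL hV' (e := L.presheaf.map (homOfLE hle).op a) (fun z hz => by
        show Function.Bijective fun r : X.presheaf.stalk z => r • L.presheaf.germ _ z hz (L.presheaf.map (homOfLE hle).op a)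
        rw [L.presheaf.germ_res_apply]; exact ha z (hle hz))
      (c := X.presheaf.map (homOfLE hle).op a') (fun z hz => by
        rw [X.presheaf.germ_res_apply, L.presheaf.germ_res_apply]
        exact hca z (hle hz))
    rw [hτ] at h1
    rw [hz, h1] at h2
    have h3 := congrArg (Ideal.map (X.presheaf.germ V' y hyV').hom) h2
    rw [Ideal.map_span, Ideal.map_span, Set.image_singleton, Set.image_singleton] at h3
    rw [X.presheaf.germ_res_apply] at h3
    exact h3.symm
  obtain ⟨φ⟩ := H12Pic.PicCurve.nonempty_iso_of_zeroGerm_eq hL hN hreg hτreg hzero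
  exact ⟨PicGrp.tensorModIso (Iso.refl _) φ ≪≫ eN⟩

end Groth.Agent.H28Surf
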