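import Groth.Agent.H28Surf.Vanish
import Groth.Agent.H28Surf.Hyperplane
import Groth.Agent.H28Surf.Embed
import Groth.Agent.H28Int.Surface
import Groth.Agent.S2329

/-!
# The intersection pairing on a surface: vanishing, bigness
-/

set_option autoImplicit false
set_option linter.style.haveILetI false
set_option linter.unusedSectionVars false
set_option backward.isDefEq.respectTransparency.types false
universe u

open CategoryTheory CategoryTheory.Limits AlgebraicGeometry Opposite TopologicalSpace
open Groth.Agent.H8Props.FieldDim (cdim)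

namespace Groth.Agent.H28Surf

open Groth.Agent.H28Int

variable {X : Scheme.{u}} (k : Type u) [Field k] [X.Over (Spec (CommRingCat.of k))]
  [IsProper (X ↘ Spec (CommRingCat.of k))]

/-- The intersection pairing of invertible modules on a surface. -/
noncomputable abbrev pr (A B : X.Modules) : ℤ := D k [A, B] (Coh.structureModule X)

include k

theorem intNum_eq_pr (hdim : topologicalKrullDim X = 2) {A B : X.Modules} (hA : PicF.IsInvertible A)
    (hB : PicF.IsInvertible B) : FGA.intNum k X 2 ![A, B] (Coh.structureModule X) = pr k A B := by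
  haveI := H28Int.isNoetherian k (X := X)
  rw [intNum_eq k (d := 2) hdim.le _ (fun t => by fin_cases t <;> assumption) (H10Coh.isCoh_structureModule' X)]
  rfl

theorem pr_symm (A B : X.Modules) : pr k A B = pr k B A := H28Int.Num.D_swap k (l := []) (by simp) _

theorem dim_support_structure_le (hdim : topologicalKrullDim X = 2) :
    topologicalKrullDim (CohB1.support (Coh.structureModule X)) ≤ ((2 : ℕ) : WithBot ℕ∞) :=
  Topology.IsInducing.subtypeVal.topologicalKrullDim_le.trans hdim.le

theorem pr_tensor_left (hdim : topologicalKrullDim X = 2) {A A' B : X.Modules} (hA : PicF.IsInvertible A)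
    (hA' : PicF.IsInvertible A') (hB : PicF.IsInvertible B) :
    pr k (CohB1.tensorMod A A') B = pr k A B + pr k A' B := by
  haveI := H28Int.isNoetherian k (X := X)
  exact D_cons_tensor k (List.forall_mem_singleton.2 hB) hA hA' (H10Coh.isCoh_structureModule' X)
    (dim_support_structure_le k hdim)

theorem pr_congr_left {A A' B : X.Modules} (hB : PicF.IsInvertible B) (e : A ≅ A') : pr k A B = pr k A' B := by
  show D k [B] _ - D k [B] _ = D k [B] _ - D k [B] _
  rw [(isAddFn_D k [B] (List.forall_mem_singleton.2 hB)).congr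
    (PicGrp.tensorModIso e (Iso.refl (Coh.structureModule X)))]

theorem pr_structure_left {B : X.Modules} (hB : PicF.IsInvertible B) : pr k (Coh.structureModule X) B = 0 :=
  D_cons_structure k (List.forall_mem_singleton.2 hB) _

theorem pr_inv_left (hdim : topologicalKrullDim X = 2) {A A' B : X.Modules} (hA : PicF.IsInvertible A)
    (hA' : PicF.IsInvertible A') (hB : PicF.IsInvertible B) (e : CohB1.tensorMod A A' ≅ Coh.structureModule X) :
    pr k A' B = - pr k A B := by
  have h := pr_tensor_left k hdim hA hA' hB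
  rw [pr_congr_left k hB e, pr_structure_left k hB] at h
  omega

theorem pr_pow_left (hdim : topologicalKrullDim X = 2) {A B : X.Modules} (hA : PicF.IsInvertible A)
    (hB : PicF.IsInvertible B) (n : ℕ) : pr k (CohB1.tensorPow A n) B = n * pr k A B := by
  induction n with
  | zero =>
    rw [show CohB1.tensorPow A 0 = Coh.structureModule X from rfl, pr_structure_left k hB]
    simp
  | succ n ih =>
    rw [show CohB1.tensorPow A (n + 1) = CohB1.tensorMod (CohB1.tensorPow A n) A from rfl,
      pr_tensor_left k hdim (H11Ample.isInvertible_tensorPow hA n) hA hB, ih]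
    push_cast
    ring

/-- Euler characteristics of powers. -/
theorem euler_pow (hdim : topologicalKrullDim X = 2) {L : X.Modules} (hL : PicF.IsInvertible L) (n : ℕ) :
    2 * Curv2.euler k X (CohB1.tensorPow L n) = 2 * Curv2.euler k X (Coh.structureModule X) +
      2 * n * (Curv2.euler k X L - Curv2.euler k X (Coh.structureModule X)) + (n * (n - 1 : ℤ)) * pr k L L := by
  induction n with
  | zero => simp [show CohB1.tensorPow L 0 = Coh.structureModule X from rfl]
  | succ n ih =>
    have h := pr_pow_left k hdim hL hL n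
    let P := CohB1.tensorPow L n
    have h1 : pr k P L = Curv2.euler k X (Coh.structureModule X) - Curv2.euler k X L -
        Curv2.euler k X P + Curv2.euler k X (CohB1.tensorPow L (n + 1)) := by
      show (Curv2.euler k X _ - Curv2.euler k X _) - (Curv2.euler k X _ - Curv2.euler k X _) = _
      rw [H25Euler.euler_congr (H10Coh.Tw.rightUnitIso L), H25Euler.euler_congr (H10Coh.Tw.rightUnitIso P),
        H25Euler.euler_congr (PicGrp.tensorModIso (Iso.refl L) (H10Coh.Tw.rightUnitIso P) ≪≫
          H10Coh.Tw.commIso L P), show CohB1.tensorPow L (n + 1) = CohB1.tensorMod P L from rfl]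
      ring
    rw [h] at h1
    push_cast
    linarith

variable [Smooth (X ↘ Spec (CommRingCat.of k))] [IsIntegral X]

/-- The pairing with a hyperplane module is the degree on the hyperplane curve. -/
theorem pr_eq_degOn (hdim : topologicalKrullDim X = 2) {C : X.IdealSheafData} (hC : IsCurve C)
    {H M : X.Modules} (hH : PicF.IsInvertible H) (hM : PicF.IsInvertible M)
    (e : CohB1.tensorMod (ClSub.idealMod C) H ≅ Coh.structureModule X) : pr k M H = degOn k C M := by
  have hCe := isEffCartier_curve k hdim hC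
  have hI := isInvertible_ideal k hCe
  have h := pr_inv_left k hdim hI hH hM e
  have h1 := intNum_idealMod k hdim.le C hI hM
  rw [intNum_eq_pr k hdim hI hM] at h1
  rw [pr_symm k M H, h, h1, degOn_eq]

/-- Second cohomology of modules of large degree against a power of an ample module vanishes. -/
theorem exists_h2_vanish_ample [IsAlgClosed k] (hdim : topologicalKrullDim X = 2) {H : X.Modules}
    (hH : CohB1.IsAmple H) :
    ∃ n₀ : ℤ, ∀ L : X.Modules, PicF.IsInvertible L → n₀ < pr k L H → Subsingleton (Coh.HH X L 2) := by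
  obtain ⟨m₀, hm₀⟩ := Embed.eventually_closedImmersion (X ↘ Spec (CommRingCat.of k)) hH
  obtain ⟨n, r, hr, hrq, ⟨τ⟩⟩ := hm₀ (m₀ + 1) (Nat.le_succ _)
  haveI := hr
  obtain ⟨C, hC, -, ⟨e⟩⟩ := exists_hyperplane_curve k hdim r hrq
  have hHi := (H11Ample.isAmple_iff.1 hH).1
  have hA : CohB1.IsAmple (CohB1.tensorPow H (m₀ + 1)) :=
    (H11Ample.isAmple_tensorPow_iff hHi (m₀ + 1) (Nat.succ_pos _)).1 hH
  have hpi : PicF.IsInvertible (CohB1.tensorPow H (m₀ + 1)) := H11Ample.isInvertible_tensorPow hHi _
  let e' : CohB1.tensorMod (ClSub.idealMod C) (CohB1.tensorPow H (m₀ + 1)) ≅ Coh.structureModule X :=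
    PicGrp.tensorModIso (Iso.refl _) τ.symm ≪≫ e
  obtain ⟨c, hc⟩ := exists_h2_vanish k hdim hC hA e'
  refine ⟨max c 0, fun L hL hlt => hc L hL ?_⟩
  rw [← pr_eq_degOn k hdim hC hpi hL e', pr_symm k L, pr_pow_left k hdim hHi hL, pr_symm k H L]
  have h1 : c ≤ max c 0 := le_max_left _ _
  have h2 : 0 ≤ max c 0 := le_max_right _ _
  push_cast
  nlinarith

/-- A class of positive square meeting an ample class positively has effective multiples. -/
theorem eventually_sections [IsAlgClosed k] (hdim : topologicalKrullDim X = 2) {H L : X.Modules}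
    (hH : CohB1.IsAmple H) (hL : PicF.IsInvertible L) (hLH : 0 < pr k L H) (hLL : 0 < pr k L L) :
    ∃ N : ℕ, ∀ n : ℕ, N ≤ n → Nontrivial (Coh.HH X (CohB1.tensorPow L n) 0) := by
  haveI := H28Int.isNoetherian k (X := X)
  haveI : X.IsSeparated := ⟨by
    rw [show terminal.from X = (X ↘ Spec (CommRingCat.of k)) ≫ terminal.from _ from terminal.hom_ext _ _]
    infer_instance⟩
  obtain ⟨c, hc⟩ := exists_h2_vanish_ample k hdim hH
  have hHi := (H11Ample.isAmple_iff.1 hH).1
  let a := Curv2.euler k X L - Curv2.euler k X (Coh.structureModule X)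
  let b := Curv2.euler k X (Coh.structureModule X)
  let N := c.natAbs + 2 * a.natAbs + 2 * b.natAbs + 4
  refine ⟨N, fun n hn => ?_⟩
  have hn' : (N : ℤ) ≤ n := by exact_mod_cast hn
  have hN : (N : ℤ) = |c| + 2 * |a| + 2 * |b| + 4 := by push_cast [N, Int.natCast_natAbs]; ring
  have hn0 : (0 : ℤ) ≤ n := Int.natCast_nonneg n
  show Nontrivial (Coh.HH X (CohB1.tensorPow L n) 0)
  let M := CohB1.tensorPow L n
  have hM : PicF.IsInvertible M := H11Ample.isInvertible_tensorPow hL n
  have hMc := H11Ample.isCoh_of_isInvertible hM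
  haveI h2 : Subsingleton (Coh.HH X M 2) := hc M hM (by
    rw [pr_pow_left k hdim hL hHi]
    nlinarith [le_abs_self c, abs_nonneg a, abs_nonneg b, mul_le_mul_of_nonneg_left (show (1 : ℤ) ≤ pr k L H by omega) hn0])
  have htop : ∀ p, 3 ≤ p → Subsingleton (Coh.HH X M p) := fun p hp => by
    haveI := subsingleton_HnM_of_support (⊤ : Closeds X) 2
      (Topology.IsInducing.subtypeVal.topologicalKrullDim_le.trans hdim.le) M hMc.1 (fun _ _ => trivial) p (by omega)
    exact (H10Coh.HHEquiv M p).toEquiv.subsingleton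
  have hchi := euler_pow k hdim hL n
  have heq : Curv2.euler k X M = (Module.finrank k (Coh.HH X M 0) : ℤ) - Module.finrank k (Coh.HH X M 1) := by
    rw [H25Euler.euler_eq_sum M 3 fun p hp => htop p hp, Finset.sum_range_succ, Finset.sum_range_succ,
      Finset.sum_range_one, Module.finrank_zero_of_subsingleton (R := k) (M := Coh.HH X M 2)]
    simp
    ring
  refine Module.nontrivial_of_finrank_pos (R := k) (M := Coh.HH X M 0) ?_
  by_contra hz
  have hle : Curv2.euler k X M ≤ 0 := by omega
  have h1 : (2 * |b| + 3) ≤ (n : ℤ) - 1 - 2 * |a| := by linarith [abs_nonneg c]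
  have h2 : (0 : ℤ) ≤ (n : ℤ) * ((n : ℤ) - 1) := mul_nonneg hn0 (by linarith [abs_nonneg a, abs_nonneg b])
  have h3 : (1 : ℤ) ≤ pr k L L := by omega
  have h4 := mul_le_mul_of_nonneg_left h3 h2
  have h5 := mul_le_mul_of_nonneg_left h1 hn0
  have h6 := mul_le_mul_of_nonneg_left (neg_abs_le a) hn0
  have h7 := mul_le_mul_of_nonneg_right (show (1 : ℤ) ≤ n by linarith [abs_nonneg a, abs_nonneg b, abs_nonneg c]) (abs_nonneg b)
  have h8 := neg_abs_le b
  change 2 * Curv2.euler k X M = 2 * b + 2 * n * a + _ at hchi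
  generalize Curv2.euler k X M = E at hchi hle
  generalize pr k L L = Q at hchi h4
  clear_value a b
  nlinarith [abs_nonneg a, abs_nonneg b, abs_nonneg c]

omit [Smooth (X ↘ Spec (CommRingCat.of k))] in
/-- For a module with sections, positivity against one ample module gives it against every other. -/
theorem pr_pos_of_sections (hdim : topologicalKrullDim X = 2) {A B M : X.Modules} (hA : CohB1.IsAmple A)
    (hB : CohB1.IsAmple B) (hM : PicF.IsInvertible M) (hsec : Nontrivial (Coh.HH X M 0))
    (hpos : 0 < pr k M A) : 0 < pr k M B := by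
  haveI := H28Int.isNoetherian k (X := X)
  have hAi := (H11Ample.isAmple_iff.1 hA).1
  have hBi := (H11Ample.isAmple_iff.1 hB).1
  obtain ⟨M', hM', ⟨e₀⟩⟩ := H11Sym.exists_inverse hM
  let e := H10Coh.Tw.commIso M M' ≪≫ e₀
  obtain ⟨g, hg⟩ := H28Int.Surface.exists_section hsec
  have key : ∀ (Q Q' : X.Modules) (hQ : CohB1.IsAmple Q) (hQ' : PicF.IsInvertible Q')
      (eQ : CohB1.tensorMod Q Q' ≅ Coh.structureModule X), pr k M' Q' = pr k M Q := fun Q Q' hQ hQ' eQ => by
    have hQi := (H11Ample.isAmple_iff.1 hQ).1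
    rw [pr_inv_left k hdim hM hM' hQ' e, pr_symm k M Q', pr_inv_left k hdim hQi hQ' hM eQ, neg_neg, pr_symm k Q M]
  obtain ⟨A', hA', ⟨eA₀⟩⟩ := H11Sym.exists_inverse hAi
  obtain ⟨B', hB', ⟨eB₀⟩⟩ := H11Sym.exists_inverse hBi
  let eA := H10Coh.Tw.commIso A A' ≪≫ eA₀
  let eB := H10Coh.Tw.commIso B B' ≪≫ eB₀
  obtain ⟨C, hC, hCd, hsub, hsup, hDA⟩ := H28Int.Surface.exists_zero_locus k (l := [A'])
    (List.forall_mem_singleton.2 hA') hdim.le hM hM' e hg
  obtain ⟨C', hC', hCd', hsub', hsup', hDB⟩ := H28Int.Surface.exists_zero_locus k (l := [B'])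
    (List.forall_mem_singleton.2 hB') hdim.le hM hM' e hg
  have hposA : 0 < D k [A'] C := by
    rw [← hDA]
    show 0 < pr k M' A'
    rw [key A A' hA hA' eA]
    exact hpos
  obtain ⟨x, hx, hxd⟩ : ∃ x ∈ CohB1.support C, ((1 : ℕ) : WithBot ℕ∞) ≤ cdim x := by
    by_contra hno
    push Not at hno
    have hlt : topologicalKrullDim (CohB1.support C) < ((1 : ℕ) : WithBot ℕ∞) := by
      rcases hCd.lt_or_eq with h | h
      · exact h
      · obtain ⟨x, hx, hxd⟩ := exists_le_cdim (H10Coh.isClosed_support _ hC.2) h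
        exact absurd hxd (not_le.2 (hno x hx))
    rw [D_eq_zero k [A'] (List.forall_mem_singleton.2 hA') C hC hlt] at hposA
    exact lt_irrefl _ hposA
  rw [← key B B' hB hB' eB]
  show 0 < D k [M', B'] _
  rw [hDB]
  exact (pos_of_ample k [B'] (List.forall_mem_singleton.2 ⟨B, hB, ⟨eB⟩⟩) C' hC' hCd').2
    ⟨x, hsup' x (hsub hx), hxd⟩

/-- Hodge index: a class orthogonal to an ample one has nonpositive square. -/
theorem pr_self_nonpos [IsAlgClosed k] (hdim : topologicalKrullDim X = 2) {H L : X.Modules}
    (hH : CohB1.IsAmple H) (hL : PicF.IsInvertible L) (horth : pr k L H = 0) : pr k L L ≤ 0 := by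
  by_contra hpos
  push Not at hpos
  haveI := H28Int.isNoetherian k (X := X)
  haveI : X.IsSeparated := ⟨by
    rw [show terminal.from X = (X ↘ Spec (CommRingCat.of k)) ≫ terminal.from _ from terminal.hom_ext _ _]
    infer_instance⟩
  have hHi := (H11Ample.isAmple_iff.1 hH).1
  obtain ⟨n₀, -, hn₀⟩ := S2329.result X H L hH hL
  let A := CohB1.tensorMod (CohB1.tensorPow H n₀) L
  have hA : CohB1.IsAmple A := (hn₀ n₀ le_rfl).1
  have hAi := (H11Ample.isAmple_iff.1 hA).1
  have hLA : 0 < pr k L A := by
    rw [pr_symm k L A, pr_tensor_left k hdim (H11Ample.isInvertible_tensorPow hHi n₀) hL hL,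
      pr_pow_left k hdim hHi hL, pr_symm k H L, horth]
    simpa using hpos
  obtain ⟨N, hN⟩ := eventually_sections k hdim hA hL hLA hpos
  have hMA : 0 < pr k (CohB1.tensorPow L (N + 1)) A := by
    rw [pr_pow_left k hdim hL hAi]
    exact mul_pos (by exact_mod_cast Nat.succ_pos N) hLA
  have h := pr_pos_of_sections k hdim hA hH (H11Ample.isInvertible_tensorPow hL (N + 1)) (hN _ (Nat.le_succ N)) hMA
  rw [pr_pow_left k hdim hL hHi, horth] at h
  simp at h

end Groth.Agent.H28Surf
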