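import Groth.Agent.H28Surf.CurveInter
import Groth.Agent.H28Vert.QuotTensor
import Groth.Agent.H28Vert.Symm
import Groth.Agent.H17.CMInter.Inter
import Groth.Agent.H17.KoszTwist.Stalk
import Groth.Agent.H8Props.FieldDimEquidim

/-!
# Proper intersections of two divisors on a Cohen–Macaulay surface
-/

set_option autoImplicit false
set_option linter.style.haveILetI false
set_option linter.unusedSectionVars false
set_option backward.isDefEq.respectTransparency.types false
universe u

open CategoryTheory CategoryTheory.Limits AlgebraicGeometry Opposite TopologicalSpace RingTheory.Sequence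
open Groth.Agent.H8Props.FieldDim (cdim)
open scoped TensorProduct Pointwise

namespace Groth.Agent.H28Surf

open Groth.Agent.H28Int

/-- Injectivity of tensoring a principal submodule with a principal quotient. -/
theorem lTensor_injective_of_span {R : Type*} [CommRing R] {M L E : Type*} [AddCommGroup M] [Module R M]
    [AddCommGroup L] [Module R L] [AddCommGroup E] [Module R E] (o : M)
    (ho : Function.Bijective fun r : R => r • o) (ι : L →ₗ[R] M) (hι : Function.Injective ι) (c d : R)
    (hr : LinearMap.range ι = Submodule.span R {d • o}) (q : M →ₗ[R] E) (hq : Function.Surjective q)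
    (hk : LinearMap.ker q = Submodule.span R {c • o}) (hreg : ∀ r : R, c ∣ r * d → c ∣ r) :
    Function.Injective (LinearMap.lTensor E ι) := by
  obtain ⟨l, hl⟩ : d • o ∈ LinearMap.range ι := hr ▸ Submodule.mem_span_singleton_self _
  have hsurj : ∀ t : E ⊗[R] L, ∃ e : E, t = e ⊗ₜ[R] l := by
    intro t
    induction t using TensorProduct.induction_on with
    | zero => exact ⟨0, (TensorProduct.zero_tmul _ _).symm⟩
    | add a b ha hb =>
      obtain ⟨e, rfl⟩ := ha
      obtain ⟨e', rfl⟩ := hb
      exact ⟨e + e', (TensorProduct.add_tmul _ _ _).symm⟩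
    | tmul e x =>
      obtain ⟨r, hr'⟩ := Submodule.mem_span_singleton.1 (hr ▸ LinearMap.mem_range_self ι x)
      have hx : x = r • l := hι (by rw [map_smul, hl, hr'])
      exact ⟨r • e, by rw [hx, ← TensorProduct.smul_tmul]⟩
  let coef : M →ₗ[R] R := (LinearEquiv.ofBijective (LinearMap.toSpanSingleton R M o) ho).symm.toLinearMap
  have hcoef : ∀ r : R, coef (r • o) = r := fun r =>
    (LinearEquiv.ofBijective (LinearMap.toSpanSingleton R M o) ho).symm_apply_apply r
  let back : E ⊗[R] M →ₗ[R] E := TensorProduct.lift ((LinearMap.lsmul R E ∘ₗ coef).flip)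
  rw [injective_iff_map_eq_zero]
  intro t ht
  obtain ⟨e, rfl⟩ := hsurj t
  rw [LinearMap.lTensor_tmul, hl] at ht
  have h1 : d • e = 0 := by
    have h := congrArg back ht
    rw [map_zero] at h
    have h1 : coef o = 1 := by simpa using hcoef 1
    simpa [back, h1] using h
  obtain ⟨m, rfl⟩ := hq e
  obtain ⟨r, rfl⟩ := ho.2 m
  rw [← map_smul, ← LinearMap.mem_ker, hk, Submodule.mem_span_singleton] at h1
  obtain ⟨s, hs⟩ := h1
  have hrd : s * c = d * r := ho.1 (by simpa [smul_smul] using hs)
  obtain ⟨t', ht'⟩ := hreg r ⟨s, by rw [mul_comm r d, ← hrd, mul_comm]⟩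
  have hz : q (r • o) = 0 := by
    rw [← LinearMap.mem_ker, hk, Submodule.mem_span_singleton]
    exact ⟨t', by rw [ht', smul_smul, mul_comm]⟩
  show q (r • o) ⊗ₜ[R] l = 0
  rw [hz, TensorProduct.zero_tmul]

section stalk

variable {X : Scheme.{u}}

/-- The generator of the stalk of the structure module. -/
noncomputable abbrev oneAt (x : X) : (Coh.structureModule X).presheaf.stalk x :=
  (Coh.structureModule X).presheaf.germ ⊤ x trivial (H11Ample.one ⊤)

theorem oneAt_bijective (x : X) :
    Function.Bijective fun r : X.presheaf.stalk x => r • oneAt x :=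
  H11Ample.isGen_one (X := X) ⊤ x trivial

theorem germ_eq_smul_oneAt {V : X.Opens} {x : X} (hx : x ∈ V) (b : Γ(X, V)) :
    (Coh.structureModule X).presheaf.germ V x hx b = X.presheaf.germ V x hx b • oneAt x := by
  have h1 : (Coh.structureModule X).presheaf.germ V x hx (H11Ample.one V) = oneAt x := by
    rw [← H11Ample.one_res (le_top : V ≤ ⊤), TopCat.Presheaf.germ_res_apply]
  rw [← h1, ← H06Mod.germ_smul]
  exact congrArg _ (mul_one b).symm

/-- The stalk of a principal ideal. -/
theorem range_stalkLin_idealModι (I : X.IdealSheafData) (U : X.affineOpens) {x : X} (hx : x ∈ U.1) (a : Γ(X, U.1))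
    (hU : I.ideal U = Ideal.span {a}) :
    LinearMap.range (H06Mod.stalkLin (ClSub.idealModι I) x) =
      Submodule.span (X.presheaf.stalk x) {X.presheaf.germ U.1 x hx a • oneAt x} := by
  refine le_antisymm ?_ ?_
  · rintro _ ⟨t, rfl⟩
    obtain ⟨V, hxV, m, rfl⟩ := (ClSub.idealMod I).presheaf.exists_germ_eq t
    obtain ⟨W, hW, hxW, hWV⟩ := exists_isAffineOpen_mem_and_subset (U := V ⊓ U.1) ⟨hxV, hx⟩
    rw [← TopCat.Presheaf.germ_res_apply (ClSub.idealMod I).presheaf (homOfLE (hWV.trans inf_le_left)) x hxW,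
      H06Mod.stalkLin_germ, germ_eq_smul_oneAt hxW]
    have hb : (show Γ(X, W) from (ClSub.idealModι I).app W
        ((ClSub.idealMod I).presheaf.map (homOfLE (hWV.trans inf_le_left)).op m)) ∈ I.ideal ⟨W, hW⟩ :=
      (H29Blow.mem_ideal_iff_exists_idealSect I hW _).2 ⟨_, rfl⟩
    have hWU : W ≤ U.1 := hWV.trans inf_le_right
    rw [← I.map_ideal (U := ⟨W, hW⟩) (V := U) hWU, hU, Ideal.map_span, Set.image_singleton] at hb
    obtain ⟨r, hr⟩ := Ideal.mem_span_singleton'.1 hb
    refine Submodule.mem_span_singleton.2 ⟨X.presheaf.germ W x hxW r, ?_⟩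
    rw [smul_smul]
    refine congrArg (· • oneAt x) ?_
    refine Eq.trans ?_ (congrArg (X.presheaf.germ W x hxW).hom hr)
    rw [map_mul]
    exact congrArg _ (TopCat.Presheaf.germ_res_apply X.presheaf _ _ _ _).symm
  · rw [Submodule.span_singleton_le_iff_mem]
    obtain ⟨m, hm⟩ := (H29Blow.mem_ideal_iff_exists_idealSect I U.2 a).1 (hU ▸ Ideal.mem_span_singleton_self a)
    refine ⟨(ClSub.idealMod I).presheaf.germ U.1 x hx m, ?_⟩
    rw [H06Mod.stalkLin_germ, ← germ_eq_smul_oneAt hx]
    exact congrArg _ hm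

/-- Tensoring the inclusion of a divisor with another one is injective when the local equations are regular. -/
theorem mono_tensor_idealModι (A B : X.IdealSheafData)
    (h : ∀ x : X, ∃ (U V : X.affineOpens) (hU : x ∈ U.1) (hV : x ∈ V.1) (a : Γ(X, U.1)) (b : Γ(X, V.1)),
      A.ideal U = Ideal.span {a} ∧ B.ideal V = Ideal.span {b} ∧
      ∀ r : X.presheaf.stalk x, X.presheaf.germ U.1 x hU a ∣ r * X.presheaf.germ V.1 x hV b →
        X.presheaf.germ U.1 x hU a ∣ r) :
    Mono (((DCoh.tensorBi (X := X)).obj (ClSub.quotMod A)).map (ClSub.idealModι B)) := by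
  refine H17.KoszTwist.mono_of_stalk_injective _ fun x => ?_
  obtain ⟨U, V, hU, hV, a, b, hA, hB, hreg⟩ := h x
  haveI := H10Coh.epi_toSubscheme A
  haveI := H10Coh.epi_toSubscheme B
  have hSA := H10Coh.shortExact_kernel (ClSub.toSubscheme A)
  have hSB := H10Coh.shortExact_kernel (ClSub.toSubscheme B)
  have hk : LinearMap.ker (H06Mod.stalkLin (ClSub.toSubscheme A) x) =
      Submodule.span (X.presheaf.stalk x) {X.presheaf.germ U.1 x hU a • oneAt x} := by
    rw [← range_stalkLin_idealModι A U hU a hA]
    exact LinearMap.exact_iff.1 (H06Mod.stalk_exact _ hSA x)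
  have hinj := lTensor_injective_of_span (oneAt x) (oneAt_bijective x) (H06Mod.stalkLin (ClSub.idealModι B) x)
    (H06Mod.stalk_injective _ hSB x) _ _ (range_stalkLin_idealModι B V hV b hB)
    (H06Mod.stalkLin (ClSub.toSubscheme A) x) (H06Mod.stalk_surjective _ hSA x) hk hreg
  let e := H16Derived.KFlat.Stalk.leftIso (ClSub.quotMod A) x
  intro p q hpq
  refine (e.app (ClSub.idealMod B)).toLinearEquiv.injective (hinj ?_)
  have hn := fun t => congr($(e.hom.naturality (ClSub.idealModι B)) t)
  exact (hn p).symm.trans ((congrArg (e.hom.app (Coh.structureModule X)) hpq).trans (hn q))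

end stalk

variable {X : Scheme.{u}} (k : Type u) [Field k] [X.Over (Spec (CommRingCat.of k))]
  [IsProper (X ↘ Spec (CommRingCat.of k))]

include k

/-- Proper intersections of divisors on Cohen–Macaulay surfaces are counted by sections. -/
theorem intNum_eq_finrank (hd : ∀ Z ∈ irreducibleComponents (X : Type u), topologicalKrullDim Z = 2)
    (hCM : ∀ x : X, LocCoh.IsCohenMacaulayLocalRing (X.presheaf.stalk x))
    (A B : X.IdealSheafData) (hA : FGA.IsEffCartier A) (hB : FGA.IsEffCartier B)
    (hfin : ((A ⊔ B).support : Set X).Finite) :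
    FGA.intNum k X 2 ![ClSub.idealMod A, ClSub.idealMod B] (Coh.structureModule X) =
      (Module.finrank k (Coh.HH X (ClSub.quotMod (A ⊔ B)) 0) : ℤ) := by
  haveI := H28Int.isNoetherian k (X := X)
  haveI : JacobsonSpace X := LocallyOfFiniteType.jacobsonSpace (X ↘ Spec (CommRingCat.of k))
  have hdim : topologicalKrullDim X ≤ ((2 : ℕ) : WithBot ℕ∞) := by
    by_contra hc
    have h3 : ((3 : ℕ) : WithBot ℕ∞) ≤ topologicalKrullDim (Set.univ : Set X) := by
      rw [(IsHomeomorph.topologicalKrullDim_eq _ (Homeomorph.Set.univ X).isHomeomorph)]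
      exact Order.succ_le_of_lt (not_le.1 hc)
    obtain ⟨s, hs⟩ := (Order.le_krullDim_iff (α := IrreducibleCloseds (Set.univ : Set X))).1 h3
    haveI : QuasiSober (Set.univ : Set X) := isClosed_univ.isClosedEmbedding_subtypeVal.quasiSober
    have := H28Top.chain_le_dim_of_subset s (Y := closure {(s.last).2.genericPoint})
      ((s.last).2.closure_genericPoint (s.last).3).ge
    obtain ⟨T, hT, hsub⟩ := exists_mem_irreducibleComponents_subset_of_isIrreducible
      (Subtype.val '' (closure {(s.last).2.genericPoint}))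
      ((isIrreducible_singleton.closure).image _ continuous_subtype_val.continuousOn)
    rw [hs] at this
    have h2 : topologicalKrullDim (closure {(s.last).2.genericPoint} : Set (Set.univ : Set X)) ≤ topologicalKrullDim T :=
      Topology.IsInducing.topologicalKrullDim_le (f := fun y : (closure {(s.last).2.genericPoint} : Set _) =>
        (⟨y.1.1, hsub ⟨y.1, y.2, rfl⟩⟩ : T))
        ((Topology.IsEmbedding.subtypeVal.comp Topology.IsEmbedding.subtypeVal).codRestrict _ _).isInducing
    rw [hd T hT] at h2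
    exact absurd (this.trans h2) (by decide)
  have hAi : PicF.IsInvertible (ClSub.idealMod A) := H29Blow.isInvertible_of_isEffCartierIdeal A hA
  have hBi : PicF.IsInvertible (ClSub.idealMod B) := H29Blow.isInvertible_of_isEffCartierIdeal B hB
  haveI hdisc : DiscreteTopology ((A ⊔ B).support : Set X) := by
    haveI := hfin.to_subtype
    haveI : JacobsonSpace ((A ⊔ B).support : Set X) :=
      JacobsonSpace.of_isClosedEmbedding (A ⊔ B).support.2.isClosedEmbedding_subtypeVal
    infer_instance
  have hclosed : ∀ x ∈ (A.support : Set X), x ∈ (B.support : Set X) → IsClosed ({x} : Set X) := by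
    intro x hxA hxB
    have hx : x ∈ ((A ⊔ B).support : Set X) := by
      rw [Scheme.IdealSheafData.support_sup A B]; exact ⟨hxA, hxB⟩
    have h := (A ⊔ B).support.2.isClosedEmbedding_subtypeVal.isClosedMap _ (isClosed_discrete {⟨x, hx⟩})
    rwa [Set.image_singleton] at h
  have hregpair : ∀ x : X, ∃ (U V : X.affineOpens) (hU : x ∈ U.1) (hV : x ∈ V.1) (a : Γ(X, U.1)) (b : Γ(X, V.1)),
      A.ideal U = Ideal.span {a} ∧ B.ideal V = Ideal.span {b} ∧
      ∀ r : X.presheaf.stalk x, X.presheaf.germ U.1 x hU a ∣ r * X.presheaf.germ V.1 x hV b →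
        X.presheaf.germ U.1 x hU a ∣ r := by
    intro x
    obtain ⟨U, hU, a, ha, haU⟩ := hA x
    obtain ⟨V, hV, b, hb, hbV⟩ := hB x
    refine ⟨U, V, hU, hV, a, b, haU, hbV, fun r hr => ?_⟩
    let c := X.presheaf.germ U.1 x hU a
    let d := X.presheaf.germ V.1 x hV b
    by_cases hxA : x ∈ (A.support : Set X)
    swap
    · have hu : IsUnit c := (X.mem_basicOpen a x hU).1 (by
        by_contra h
        exact hxA ((Scheme.IdealSheafData.mem_support_iff_of_mem hU).2 (by
          rw [haU, Scheme.zeroLocus_span, Scheme.zeroLocus_singleton]; exact h)))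
      exact hu.dvd
    by_cases hxB : x ∈ (B.support : Set X)
    swap
    · have hu : IsUnit d := (X.mem_basicOpen b x hV).1 (by
        by_contra h
        exact hxB ((Scheme.IdealSheafData.mem_support_iff_of_mem hV).2 (by
          rw [hbV, Scheme.zeroLocus_span, Scheme.zeroLocus_singleton]; exact h)))
      exact hu.dvd_mul_right.1 hr
    obtain ⟨g, g', hgg', hxg⟩ := exists_basicOpen_le_affine_inter U.2 V.2 x ⟨hU, hV⟩
    let W : X.affineOpens := X.affineBasicOpen g
    have hWU : W.1 ≤ U.1 := X.basicOpen_le g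
    have hWV : W.1 ≤ V.1 := by show X.basicOpen g ≤ V.1; rw [hgg']; exact X.basicOpen_le g'
    have hxW : x ∈ W.1 := hxg
    haveI := hCM x
    let f : Fin 2 → X.presheaf.stalk x := ![c, d]
    have hspan : Ideal.span (Set.range f) =
        (A.subschemeι.ker.ideal W ⊔ B.subschemeι.ker.ideal W).map (X.presheaf.germ W.1 x hxW).hom := by
      rw [A.ker_subschemeι, B.ker_subschemeι, ← A.map_ideal (U := W) (V := U) hWU,
        ← B.map_ideal (U := W) (V := V) hWV, haU, hbV, Ideal.map_span, Ideal.map_span, Set.image_singleton,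
        Set.image_singleton, Ideal.map_sup, Ideal.map_span, Ideal.map_span, Set.image_singleton, Set.image_singleton,
        ← Ideal.span_union]
      simp only [← RingHom.comp_apply, ← CommRingCat.hom_comp, TopCat.Presheaf.germ_res]
      exact congrArg Ideal.span (by simp [f, c, d, Matrix.range_cons, Matrix.range_empty, Set.pair_comm])
    have hne : Ideal.span (Set.range f) ≠ ⊤ := by
      refine ne_top_of_le_ne_top (IsLocalRing.maximalIdeal.isMaximal (X.presheaf.stalk x)).ne_top ?_
      rw [Ideal.span_le]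
      rintro _ ⟨i, rfl⟩
      fin_cases i
      · refine (IsLocalRing.mem_maximalIdeal _).2 fun hu => ?_
        have h := (Scheme.IdealSheafData.mem_support_iff_of_mem hU).1 hxA
        rw [haU, Scheme.zeroLocus_span, Scheme.zeroLocus_singleton] at h
        exact h ((X.mem_basicOpen a x hU).2 hu)
      · refine (IsLocalRing.mem_maximalIdeal _).2 fun hu => ?_
        have h := (Scheme.IdealSheafData.mem_support_iff_of_mem hV).1 hxB
        rw [hbV, Scheme.zeroLocus_span, Scheme.zeroLocus_singleton] at h
        exact h ((X.mem_basicOpen b x hV).2 hu)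
    have hh : ((2 : ℕ) : ℕ∞) ≤ (Ideal.span (Set.range f)).height := by
      rw [hspan]
      refine H17.CMInter.le_height_map_germ A.subschemeι B.subschemeι (a := 1) (b := 1) (fun w => ?_) W x hxW
      let y := (Limits.pullback.fst A.subschemeι B.subschemeι ≫ A.subschemeι).base w
      have hyA : y ∈ (A.support : Set X) := by
        rw [← Scheme.IdealSheafData.range_subschemeι]; exact ⟨_, rfl⟩
      have hyB : y ∈ (B.support : Set X) := by
        rw [← Scheme.IdealSheafData.range_subschemeι]
        exact ⟨(Limits.pullback.snd A.subschemeι B.subschemeι).base w, by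
          show (Limits.pullback.snd A.subschemeι B.subschemeι ≫ B.subschemeι).base w = _
          rw [← Limits.pullback.condition]⟩
      have hl := H8Props.FieldDim.localDim_eq_stalk_add_cdim (X ↘ Spec (CommRingCat.of k)) y
      rw [H8Props.FieldDim.localDim_eq_of_pure (X ↘ Spec (CommRingCat.of k)) y 2 hd,
        H28Int.Curves.cdim_closed (hclosed y hyA hyB), Nat.cast_zero, add_zero] at hl
      exact hl.le
    have hreg := H17.KoszSh.isWeaklyRegular_of_le_height f hne hh
    rw [List.ofFn_succ, List.ofFn_succ, List.ofFn_zero, isWeaklyRegular_cons_iff, isWeaklyRegular_cons_iff] at hreg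
    obtain ⟨t, ht⟩ := hr
    have hmem : r * d ∈ f 0 • (⊤ : Submodule (X.presheaf.stalk x) (X.presheaf.stalk x)) :=
      Submodule.mem_smul_pointwise_iff_exists _ _ _ |>.2 ⟨t, Submodule.mem_top, ht.symm⟩
    have h2 := hreg.2.1 (a₁ := Submodule.Quotient.mk r) (a₂ := 0) (by
      show f (Fin.succ 0) • Submodule.Quotient.mk r = f (Fin.succ 0) • 0
      rw [smul_zero, ← Submodule.Quotient.mk_smul, Submodule.Quotient.mk_eq_zero, smul_eq_mul, mul_comm]
      exact hmem)
    rw [Submodule.Quotient.mk_eq_zero, Submodule.mem_smul_pointwise_iff_exists] at h2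
    obtain ⟨t, -, ht⟩ := h2
    exact ⟨t, ht.symm⟩
  haveI := mono_tensor_idealModι A B hregpair
  let T := (DCoh.tensorBi (X := X)).obj (ClSub.quotMod A)
  let φ := T.map (ClSub.idealModι B)
  have hQA : Coh.IsCoh (ClSub.quotMod A) := LeadDev.isCoh_push_structure A.subschemeι
  have h₁ : Coh.IsCoh (T.obj (ClSub.idealMod B)) := H11Ample.isCoh_tensor hQA hBi
  have h₂ : Coh.IsCoh (T.obj (Coh.structureModule X)) :=
    H10Coh.isCoh_of_iso (H10Coh.Tw.rightUnitIso (ClSub.quotMod A)).symm hQA
  have hS : (ShortComplex.mk φ (cokernel.π φ) (cokernel.condition φ)).ShortExact :=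
    ShortComplex.ShortExact.mk' (ShortComplex.exact_cokernel φ) inferInstance inferInstance
  have hadd := (isAddFn_euler k).add _ hS h₁ h₂ (H10Coh.isCoh_cokernel φ h₁.1 h₂)
  change Curv2.euler k X (CohB1.tensorMod (ClSub.quotMod A) (Coh.structureModule X)) =
    Curv2.euler k X (CohB1.tensorMod (ClSub.quotMod A) (ClSub.idealMod B)) +
    Curv2.euler k X (cokernel φ) at hadd
  obtain ⟨eQ⟩ := H28Vert.nonempty_quotTensorIso A B
  have hs : CohB1.support (ClSub.quotMod (A ⊔ B)) ⊆ ((A ⊔ B).support : Set X) := by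
    rw [← H28Vert.support_cokernel_idealModι (A ⊔ B)]
    exact LeadDev.support_subset_of_iso (H28Vert.cokernelIdealModιIso (A ⊔ B)).symm
  have hzero : topologicalKrullDim ((A ⊔ B).support : Set X) ≤ ((0 : ℕ) : WithBot ℕ∞) :=
    topologicalKrullDim_zero_of_discreteTopology _
  rw [intNum_idealMod k hdim A hAi hBi]
  show Curv2.euler k X (ClSub.quotMod A) - Curv2.euler k X (CohB1.tensorMod (ClSub.idealMod B) (ClSub.quotMod A)) = _
  rw [H25Euler.euler_congr (H10Coh.Tw.rightUnitIso (ClSub.quotMod A)),
    H25Euler.euler_congr (H10Coh.Tw.commIso (ClSub.quotMod A) (ClSub.idealMod B)),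
    H25Euler.euler_congr ((PreservesCokernel.iso T (ClSub.idealModι B)).symm ≪≫
      T.mapIso (H28Vert.cokernelIdealModιIso B) ≪≫ eQ)] at hadd
  rw [H25Euler.euler_eq_sum (ClSub.quotMod (A ⊔ B)) 1 fun p hp => by
    haveI : X.IsSeparated := ⟨by
      rw [show terminal.from X = (X ↘ Spec (CommRingCat.of k)) ≫ terminal.from _ from terminal.hom_ext _ _]
      infer_instance⟩
    haveI := subsingleton_HnM_of_support (A ⊔ B).support 0 hzero (ClSub.quotMod (A ⊔ B)) (LeadDev.isCoh_push_structure (A ⊔ B).subschemeι).1 hs p hp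
    exact (H10Coh.HHEquiv (ClSub.quotMod (A ⊔ B)) p).toEquiv.subsingleton] at hadd
  rw [Finset.sum_range_one, pow_zero, one_mul] at hadd
  omega

end Groth.Agent.H28Surf
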