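import Groth.Agent.H28Surf.AffineMV
import Mathlib
import Groth.Agent.H28Int.Curves
import Groth.Agent.H22Alg.RedIntegral
import Groth.Agent.H8Props.FieldDimEquidim
import Groth.Prelude.Def_Pi1

/-!
# Complements of affine opens in normal proper surfaces are connected
-/

set_option autoImplicit false
set_option linter.style.haveILetI false
set_option backward.isDefEq.respectTransparency.types false

universe u

open CategoryTheory CategoryTheory.Limits AlgebraicGeometry Opposite TopologicalSpace Polynomial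
open Groth.Agent.H8Props.FieldDim (cdim)

namespace Groth.Agent.H28Surf

variable {k : Type u} [Field k] {X : Scheme.{u}} (p : X ⟶ Spec (CommRingCat.of k))

/-- The constants through a morphism into an open. -/
theorem appLE_cst {Z : Scheme.{u}} (ι : Z ⟶ X) (W : X.Opens) (h : ⊤ ≤ ι ⁻¹ᵁ W) (c : k) :
    (ι.appLE W ⊤ h).hom (cst p W c) = Coh.toGlobal (ι ≫ p) c := by
  refine (congr($(Scheme.Hom.map_appLE ι h (homOfLE (le_top : W ≤ ⊤)).op) (Coh.toGlobal p c))).trans ?_
  show (ι.appLE ⊤ ⊤ _).hom (p.appTop ((Scheme.ΓSpecIso (CommRingCat.of k)).inv c)) =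
    (ι ≫ p).appTop ((Scheme.ΓSpecIso (CommRingCat.of k)).inv c)
  rw [Scheme.Hom.comp_appTop]
  show (ι.appLE ⊤ ⊤ _).hom _ = ι.appTop _
  rw [Scheme.Hom.appLE]
  simp
  rfl

theorem eval₂_appLE {Z : Scheme.{u}} (ι : Z ⟶ X) (W : X.Opens) (h : ⊤ ≤ ι ⁻¹ᵁ W) (P : k[X]) (g : Γ(X, W)) :
    (ι.appLE W ⊤ h).hom (eval₂ (cst p W) g P) = eval₂ (Coh.toGlobal (ι ≫ p)) ((ι.appLE W ⊤ h).hom g) P := by
  rw [hom_eval₂]
  exact congrArg (fun φ => eval₂ φ _ P) (RingHom.ext fun c => appLE_cst p ι W h c)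

theorem le_preimage_subscheme (Z : Closeds X) {W : X.Opens} (hW : (Z : Set X) ⊆ (W : Set X)) :
    ⊤ ≤ (Scheme.IdealSheafData.vanishingIdeal Z).subschemeι ⁻¹ᵁ W := fun z _ => hW (by
  have h := Set.mem_range_self (f := (Scheme.IdealSheafData.vanishingIdeal Z).subschemeι) z
  rwa [H17.range_vanishingIdeal_subschemeι] at h)

/-- The germ at the generic point. -/
noncomputable def atGen [IsIntegral X] (W : X.Opens) (hW : genericPoint X ∈ W) : Γ(X, W) →+* X.functionField :=
  (X.presheaf.germ W (genericPoint X) hW).hom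

theorem atGen_res [IsIntegral X] {W W' : X.Opens} (h : W' ≤ W) (hW' : genericPoint X ∈ W') (g : Γ(X, W)) :
    atGen W' hW' ((X.presheaf.map (homOfLE h).op).hom g) = atGen W (h hW') g :=
  TopCat.Presheaf.germ_res_apply X.presheaf _ _ _ g

variable [IsProper p]

include p

/-- A function defined near a complete closed subset satisfies a polynomial there. -/
theorem exists_monic_vanish (Z : Closeds X) {W : X.Opens} (hW : (Z : Set X) ⊆ (W : Set X)) (g : Γ(X, W)) :
    ∃ Q : k[X], Q.Monic ∧ 0 < Q.natDegree ∧ ∀ z ∈ (Z : Set X), z ∉ X.basicOpen (eval₂ (cst p W) g Q) := by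
  let ι := (Scheme.IdealSheafData.vanishingIdeal Z).subschemeι
  have hle := le_preimage_subscheme Z hW
  let ψ : k →+* Γ((Scheme.IdealSheafData.vanishingIdeal Z).subscheme, ⊤) := Coh.toGlobal (ι ≫ p)
  obtain ⟨Q₀, hQ₀, hQ₀0⟩ := (H28Vert.finite_toGlobal_of_isProper (ι ≫ p)).to_isIntegral ((ι.appLE W ⊤ hle).hom g)
  let Q := Q₀ * Polynomial.X
  have hQ : Q.Monic := hQ₀.mul monic_X
  have hQ0 : eval₂ ψ ((ι.appLE W ⊤ hle).hom g) Q = 0 := by
    show eval₂ ψ _ (Q₀ * Polynomial.X) = 0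
    rw [eval₂_mul, show eval₂ ψ ((ι.appLE W ⊤ hle).hom g) Q₀ = 0 from hQ₀0, zero_mul]
  refine ⟨Q, hQ, by rw [natDegree_mul hQ₀.ne_zero X_ne_zero, natDegree_X]; omega, fun z hz hzb => ?_⟩
  obtain ⟨w, rfl⟩ : z ∈ Set.range ι := by rw [H17.range_vanishingIdeal_subschemeι]; exact hz
  have hw : w ∈ (⊤ : Scheme.Opens _) ⊓ ι ⁻¹ᵁ X.basicOpen (eval₂ (cst p W) g Q) := ⟨trivial, hzb⟩
  rw [← Scheme.basicOpen_appLE (e := hle), eval₂_appLE p ι W hle,
    show eval₂ (Coh.toGlobal (ι ≫ p)) ((ι.appLE W ⊤ hle).hom g) Q = 0 from hQ0] at hw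
  exact ((Scheme.basicOpen_zero _ _).le hw)

/-- A function near an integral complete closed subset which is a unit at one of its points is one at all. -/
theorem mem_basicOpen_of_mem (x : X) {W : X.Opens} (hW : closure {x} ⊆ (W : Set X)) (g : Γ(X, W))
    {y : X} (hy : y ∈ closure {x}) (hxg : x ∈ X.basicOpen g) : y ∈ X.basicOpen g := by
  let Z : Closeds X := ⟨closure {x}, isClosed_closure⟩
  let ι := (Scheme.IdealSheafData.vanishingIdeal Z).subschemeι
  haveI : IsIntegral (Scheme.IdealSheafData.vanishingIdeal Z).subscheme := H22Alg.isIntegral_vanishingIdeal_closure x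
  have hle := le_preimage_subscheme Z hW
  let ψ := Coh.toGlobal (ι ≫ p)
  letI : Algebra k Γ((Scheme.IdealSheafData.vanishingIdeal Z).subscheme, ⊤) := ψ.toAlgebra
  haveI : Nonempty ↥(⊤ : (Scheme.IdealSheafData.vanishingIdeal Z).subscheme.Opens) :=
    ⟨⟨genericPoint (Scheme.IdealSheafData.vanishingIdeal Z).subscheme, trivial⟩⟩
  haveI : Module.Finite k Γ((Scheme.IdealSheafData.vanishingIdeal Z).subscheme, ⊤) :=
    H28Vert.finite_toGlobal_of_isProper (ι ≫ p)
  have hF : IsField Γ((Scheme.IdealSheafData.vanishingIdeal Z).subscheme, ⊤) :=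
    isField_of_isIntegral_of_isField' (R := k) (Field.toIsField k)
  have hne : ((ι.appLE W ⊤ hle).hom g) ≠ 0 := by
    intro h0
    obtain ⟨w, hw⟩ : x ∈ Set.range ι := by rw [H17.range_vanishingIdeal_subschemeι]; exact subset_closure rfl
    have hw' : w ∈ (⊤ : Scheme.Opens _) ⊓ ι ⁻¹ᵁ X.basicOpen g := ⟨trivial, show ι w ∈ _ from hw ▸ hxg⟩
    rw [← Scheme.basicOpen_appLE (e := hle), show (ι.appLE W ⊤ hle).hom g = 0 from h0, Scheme.basicOpen_zero] at hw'
    exact hw'
  have htop := Scheme.basicOpen_of_isUnit (X := (Scheme.IdealSheafData.vanishingIdeal Z).subscheme)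
    (isUnit_iff_exists_inv.2 (hF.mul_inv_cancel hne))
  rw [Scheme.basicOpen_appLE] at htop
  obtain ⟨w, hw⟩ : y ∈ Set.range ι := by rw [H17.range_vanishingIdeal_subschemeι]; exact hy
  have h2 : w ∈ (⊤ : Scheme.Opens _) ⊓ ι ⁻¹ᵁ X.basicOpen g := htop.ge trivial
  exact hw ▸ h2.2

variable [IsIntegral X]

omit [IsProper p] in
/-- Functions algebraic over the base are regular everywhere on a normal scheme, as are their roots. -/
theorem exists_stalk_eq (hn : Pi1.IsNormalScheme X) {U W₁ W₂ : X.Opens} (hU : genericPoint X ∈ U)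
    (h₁ : U ≤ W₁) (h₂ : U ≤ W₂) (x : X) (hx : x ∈ W₁) (f : Γ(X, U)) (a : Γ(X, W₁)) (b : Γ(X, W₂)) (P Q : k[X])
    (hP : P.Monic) (hP0 : 0 < P.natDegree) (hQ : Q.Monic) (hQb : eval₂ (cst p W₂) b Q = 0)
    (heq : eval₂ (cst p U) f P = (X.presheaf.map (homOfLE h₁).op).hom a + (X.presheaf.map (homOfLE h₂).op).hom b) :
    ∃ (V : X.Opens) (_ : x ∈ V) (hV : genericPoint X ∈ V) (s : Γ(X, V)), atGen V hV s = atGen U hU f := by
  haveI := (hn x).1
  haveI := (hn x).2
  let O := X.presheaf.stalk x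
  have hη : ∀ (W : X.Opens), x ∈ W → genericPoint X ∈ W := fun W hW => (genericPoint_specializes x).mem_open W.2 hW
  have halg : ∀ (W : X.Opens) (hW : x ∈ W) (s : Γ(X, W)),
      algebraMap O X.functionField (X.presheaf.germ W x hW s) = atGen W (hη W hW) s := fun W hW s => by
    show (X.presheaf.stalkSpecializes (genericPoint_specializes x)).hom ((X.presheaf.germ W x hW).hom s) = _
    exact congr($(X.presheaf.germ_stalkSpecializes hW (genericPoint_specializes x)) s)
  let κ : k →+* O := (X.presheaf.germ ⊤ x trivial).hom.comp (Coh.toGlobal p)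
  have hκ : ∀ (W : X.Opens) (hW : genericPoint X ∈ W),
      (atGen W hW).comp (cst p W) = (algebraMap O X.functionField).comp κ := fun W hW => RingHom.ext fun c => by
    show atGen W hW (cst p W c) = algebraMap O X.functionField (X.presheaf.germ ⊤ x trivial (Coh.toGlobal p c))
    rw [halg ⊤ trivial]
    exact atGen_res le_top hW _
  have hev : ∀ (W : X.Opens) (hW : genericPoint X ∈ W) (R : k[X]) (s : Γ(X, W)),
      atGen W hW (eval₂ (cst p W) s R) = aeval (atGen W hW s) (R.map κ) := fun W hW R s => by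
    rw [hom_eval₂, hκ W hW, aeval_def, eval₂_map]
  have hb : _root_.IsIntegral O (atGen W₂ (h₂ hU) b) := by
    refine ⟨Q.map κ, hQ.map κ, ?_⟩
    show aeval (atGen W₂ (h₂ hU) b) (Q.map κ) = 0
    rw [← hev, hQb, map_zero]
  have hf : _root_.IsIntegral O (atGen U hU f) := by
    refine IsIntegral.of_aeval_monic (hP.map κ) ?_ ?_
    · rw [hP.natDegree_map]; exact hP0.ne'
    · rw [← hev, heq, map_add, atGen_res, atGen_res]
      refine IsIntegral.add ?_ hb
      rw [← halg W₁ hx a]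
      exact isIntegral_algebraMap
  obtain ⟨y, hy⟩ := IsIntegrallyClosed.isIntegral_iff.1 hf
  obtain ⟨V, hxV, s, rfl⟩ := TopCat.Presheaf.germ_exist X.presheaf y
  exact ⟨V, hxV, hη V hxV, s, (halg V hxV s).symm.trans hy⟩

omit [IsProper p] in
/-- An affine open to which all functions near it extend is closed off. -/
theorem eq_of_extends [IsSeparated p] {U W : X.Opens} (hU : IsAffineOpen U) (h : U ≤ W) (hne : genericPoint X ∈ U)
    (hext : Function.Surjective (X.presheaf.map (homOfLE h).op).hom) : W ≤ U := by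
  haveI : X.IsSeparated := ⟨by
    rw [show terminal.from X = p ≫ terminal.from _ from terminal.hom_ext _ _]
    infer_instance⟩
  haveI : IsAffine U.toScheme := hU
  let j := X.homOfLE h
  haveI : Nonempty ↥U := ⟨⟨genericPoint X, hne⟩⟩
  haveI : Nonempty ↥W := ⟨⟨genericPoint X, h hne⟩⟩
  have hbij : Function.Bijective (X.presheaf.map (homOfLE h).op).hom :=
    ⟨fun a b hab => germ_injective_of_isIntegral X (genericPoint X) (h hne) (by
      have := congrArg (atGen U hne) hab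
      rwa [atGen_res, atGen_res] at this), hext⟩
  haveI hi : IsIso (X.presheaf.map (homOfLE h).op) := (ConcreteCategory.isIso_iff_bijective _).2 hbij
  haveI : IsIso j.appTop := by
    have gen : ∀ (U' W' : X.Opens) (e : U' ≤ W'), U' = U → W' = W → IsIso (X.presheaf.map (homOfLE e).op) := by
      rintro U' W' e rfl rfl
      exact hi
    rw [Scheme.homOfLE_appTop]
    exact gen _ _ _ U.ι_image_top W.ι_image_top
  let r : W.toScheme ⟶ U.toScheme := W.toScheme.toSpecΓ ≫ Spec.map (inv j.appTop) ≫ inv U.toScheme.toSpecΓ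
  have hjr : j ≫ r = 𝟙 _ := by
    show j ≫ W.toScheme.toSpecΓ ≫ Spec.map (inv j.appTop) ≫ inv U.toScheme.toSpecΓ = _
    rw [← Category.assoc, Scheme.toSpecΓ_naturality, Category.assoc, ← Spec.map_comp_assoc, IsIso.inv_hom_id,
      Spec.map_id, Category.id_comp, IsIso.hom_inv_id]
  haveI : Nonempty W.toScheme := ⟨(⟨genericPoint X, h hne⟩ : W)⟩
  haveI : IsIntegral W.toScheme := isIntegral_of_isOpenImmersion W.ι
  haveI : IsDominant j := by
    refine ⟨?_⟩
    refine IsOpen.dense j.isOpenEmbedding.isOpen_range ⟨j ⟨genericPoint X, hne⟩, ⟨_, rfl⟩⟩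
  have heq : r ≫ U.ι = W.ι := ext_of_isDominant j (by rw [reassoc_of% hjr, Scheme.homOfLE_ι])
  intro x hx
  have := Set.mem_range_self (f := (r ≫ U.ι)) (⟨x, hx⟩ : W)
  rw [heq] at this
  obtain ⟨w, hw⟩ := Set.mem_range_self (f := W.ι) (⟨x, hx⟩ : W)
  have h3 : W.ι ⟨x, hx⟩ ∈ Set.range U.ι := ⟨r ⟨x, hx⟩, congr($(heq).base ⟨x, hx⟩)⟩
  rw [Scheme.Opens.range_ι] at h3
  exact h3

omit [IsIntegral X] in
/-- Points whose closure stays in an affine open are closed. -/
theorem isClosed_of_closure_subset {U : X.Opens} (hU : IsAffineOpen U) {x : X} (h : closure {x} ⊆ (U : Set X)) :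
    IsClosed ({x} : Set X) := by
  rw [← closure_subset_iff_isClosed]
  intro y hy
  by_contra hne
  have hyU := h hy
  have hns : ¬ y ⤳ x := fun hs => hne
    ((specializes_iff_mem_closure.2 hy).antisymm hs).symm.eq
  rw [specializes_iff_forall_open] at hns
  push Not at hns
  obtain ⟨V, hV, hxV, hyV⟩ := hns
  obtain ⟨g, hg, hgx⟩ := hU.exists_basicOpen_le (V := ⟨V, hV⟩ ⊓ U) ⟨x, hxV, (specializes_iff_mem_closure.2 hy).mem_open U.2 hyU⟩
    ((specializes_iff_mem_closure.2 hy).mem_open U.2 hyU)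
  exact hyV (hg (mem_basicOpen_of_mem p x h g hy hgx)).1

omit [IsProper p] [IsIntegral X] in
/-- The two kinds of functions. -/
theorem exists_transcendental {W : X.Opens} (h : ¬ ∀ g : Γ(X, W), ∃ Q : k[X], Q.Monic ∧ eval₂ (cst p W) g Q = 0) :
    ∃ g : Γ(X, W), ∀ Q : k[X], Q ≠ 0 → eval₂ (cst p W) g Q ≠ 0 := by
  push Not at h
  obtain ⟨g, hg⟩ := h
  refine ⟨g, fun Q hQ h0 => hg _ (Polynomial.monic_mul_leadingCoeff_inv hQ) ?_⟩
  rw [eval₂_mul, h0, zero_mul]

/-- Nonconstant functions cannot live on both sides. -/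
theorem false_of_transcendental (hdim : topologicalKrullDim X = 2) {U : X.Opens} (hU : IsAffineOpen U)
    {A B : Closeds X} (hAB : Disjoint (A : Set X) B) (hcov : (U : Set X)ᶜ = (A : Set X) ∪ (B : Set X))
    {g : Γ(X, (⟨(A : Set X)ᶜ, A.isClosed.isOpen_compl⟩ : X.Opens))}
    (hg : ∀ Q : k[X], Q ≠ 0 → eval₂ (cst p _) g Q ≠ 0)
    {h : Γ(X, (⟨(B : Set X)ᶜ, B.isClosed.isOpen_compl⟩ : X.Opens))}
    (hh : ∀ Q : k[X], Q ≠ 0 → eval₂ (cst p _) h Q ≠ 0) (hne : genericPoint X ∈ U) : False := by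
  let WA : X.Opens := ⟨(A : Set X)ᶜ, A.isClosed.isOpen_compl⟩
  let WB : X.Opens := ⟨(B : Set X)ᶜ, B.isClosed.isOpen_compl⟩
  have hUA : U ≤ WA := fun x hx hxA => hcov.ge (Or.inl hxA) hx
  have hUB : U ≤ WB := fun x hx hxB => hcov.ge (Or.inr hxB) hx
  obtain ⟨Qg, hQg, -, hgB⟩ := exists_monic_vanish p B (W := WA) (fun x hx hxA => Set.disjoint_left.1 hAB hxA hx) g
  obtain ⟨Qh, hQh, hQhd, hhA⟩ := exists_monic_vanish p A (W := WB) (fun x hx hxB => Set.disjoint_left.1 hAB hx hxB) h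
  let G := eval₂ (cst p WA) g Qg
  let H := eval₂ (cst p WB) h Qh
  have hG0 : G ≠ 0 := hg Qg hQg.ne_zero
  have hH0 : H ≠ 0 := hh Qh hQh.ne_zero
  let V : X.Opens := X.basicOpen G ⊓ X.basicOpen H ⊓ U
  have hV : (V : Set X).Nonempty := by
    refine ⟨genericPoint X, ⟨?_, ?_⟩, hne⟩
    · obtain ⟨z, hz⟩ : ((X.basicOpen G : X.Opens) : Set X).Nonempty :=
        Set.nonempty_iff_ne_empty.2 fun e => hG0 ((basicOpen_eq_bot_iff G).1 (Opens.ext e))
      exact (genericPoint_specializes z).mem_open (X.basicOpen G).2 hz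
    · obtain ⟨z, hz⟩ : ((X.basicOpen H : X.Opens) : Set X).Nonempty :=
        Set.nonempty_iff_ne_empty.2 fun e => hH0 ((basicOpen_eq_bot_iff H).1 (Opens.ext e))
      exact (genericPoint_specializes z).mem_open (X.basicOpen H).2 hz
  haveI : JacobsonSpace X := LocallyOfFiniteType.jacobsonSpace p
  obtain ⟨x, ⟨⟨hxG, hxH⟩, hxU⟩, hxc⟩ := nonempty_inter_closedPoints hV V.2.isLocallyClosed
  obtain ⟨Q, hQm, -, hQx⟩ := exists_monic_vanish p ⟨{x}, hxc⟩ (W := WB) (by
    intro y hy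
    rw [show y = x from hy]
    exact hUB hxU) H
  -- remove the roots at zero
  obtain ⟨m, R, hR0, hQR⟩ : ∃ (m : ℕ) (R : k[X]), R.eval 0 ≠ 0 ∧ Q = Polynomial.X ^ m * R := by
    obtain ⟨R, hR, hR'⟩ := Q.exists_eq_pow_rootMultiplicity_mul_and_not_dvd hQm.ne_zero 0
    refine ⟨Q.rootMultiplicity 0, R, fun h0 => hR' ?_, by simpa using hR⟩
    simpa [Polynomial.X_dvd_iff, Polynomial.coeff_zero_eq_eval_zero] using h0
  let E := eval₂ (cst p WB) H R
  have hEQ : eval₂ (cst p WB) H Q = H ^ m * E := by rw [hQR, eval₂_mul, eval₂_X_pow]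
  have hxE : x ∉ X.basicOpen E := fun hxe => hQx x rfl (by
    rw [hEQ, Scheme.basicOpen_mul]
    refine ⟨?_, hxe⟩
    rcases Nat.eq_zero_or_pos m with rfl | hm
    · rw [pow_zero, Scheme.basicOpen_of_isUnit X isUnit_one]; exact hUB hxU
    · rw [Scheme.basicOpen_pow X H hm]; exact hxH)
  have hE0 : E ≠ 0 := by
    intro h0
    have hRh : R.comp Qh ≠ 0 := fun hc => by
      rcases Polynomial.comp_eq_zero_iff.1 hc with h1 | ⟨-, h2⟩
      · exact hR0 (by rw [h1, Polynomial.eval_zero])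
      · rw [h2, Polynomial.natDegree_C] at hQhd
        exact lt_irrefl _ hQhd
    exact hh _ hRh (by rw [eval₂_comp]; exact h0)
  let EU : Γ(X, U) := (X.presheaf.map (homOfLE hUB).op).hom E
  have hxP : EU ∈ (hU.primeIdealOf ⟨x, hxU⟩).asIdeal := by
    by_contra hn
    refine hxE ?_
    have h1 : hU.fromSpec (hU.primeIdealOf ⟨x, hxU⟩) ∈ X.basicOpen EU := by
      have h2 : hU.primeIdealOf ⟨x, hxU⟩ ∈ hU.fromSpec ⁻¹ᵁ X.basicOpen EU := by
        rw [hU.fromSpec_preimage_basicOpen]; exact hn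
      exact h2
    rw [hU.fromSpec_primeIdealOf, Scheme.basicOpen_res] at h1
    exact h1.2
  obtain ⟨q, hq, hqP⟩ := Ideal.exists_minimalPrimes_le ((Ideal.span_singleton_le_iff_mem _).2 hxP)
  haveI : q.IsPrime := hq.1.1
  haveI : IsLocallyNoetherian X := LocallyOfFiniteType.isLocallyNoetherian p
  haveI : IsNoetherianRing Γ(X, U) := IsLocallyNoetherian.component_noetherian ⟨U, hU⟩
  haveI : Nonempty ↥U := ⟨⟨x, hxU⟩⟩
  let z : PrimeSpectrum Γ(X, U) := ⟨q, hq.1.1⟩
  let ξ := hU.fromSpec z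
  have hξU : ξ ∈ U := by
    have h1 : ξ ∈ Set.range hU.fromSpec := ⟨z, rfl⟩
    rwa [hU.range_fromSpec] at h1
  have hξx : ξ ⤳ x := by
    have hs : z ⤳ hU.primeIdealOf ⟨x, hxU⟩ := (PrimeSpectrum.le_iff_specializes _ _).1 hqP
    have := hs.map hU.fromSpec.continuous
    rwa [hU.fromSpec_primeIdealOf] at this
  have hEUne : EU ≠ 0 := fun h0 => hE0 (germ_injective_of_isIntegral X (genericPoint X) (hUB hne)
    (((congrArg (atGen U hne) h0).symm.trans (atGen_res hUB hne E)).symm.trans (by rw [map_zero, map_zero])))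
  haveI : Nonempty U.toScheme := ⟨⟨x, hxU⟩⟩
  haveI : IsDomain Γ(X, U) := IsIntegral.component_integral U
  have hh1 : q.height = 1 := le_antisymm (Ideal.height_le_one_of_isPrincipal_of_mem_minimalPrimes _ _ hq) (by
    rw [← Ideal.height_span_singleton_eq_one_of_mem_nonZeroDivisors (mem_nonZeroDivisors_of_ne_zero hEUne)
      (fun hu => (hU.primeIdealOf ⟨x, hxU⟩).isPrime.ne_top (Ideal.eq_top_of_isUnit_mem _ hxP hu))]
    exact Ideal.height_mono hq.1.2)
  letI := (X.presheaf.germ U ξ hξU).hom.toAlgebra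
  haveI : IsLocalization.AtPrime (X.presheaf.stalk ξ) q := hU.isLocalization_stalk' z hξU
  have hst : ringKrullDim (X.presheaf.stalk ξ) = ((1 : ℕ) : WithBot ℕ∞) := by
    rw [IsLocalization.AtPrime.ringKrullDim_eq_height q (X.presheaf.stalk ξ), hh1]
    rfl
  have hcd : cdim ξ = ((1 : ℕ) : WithBot ℕ∞) := by
    have h1 := H8Props.FieldDim.localDim_eq_stalk_add_cdim p ξ
    rw [H8Props.FieldDim.localDim_eq_dim_of_irreducible p ξ, hdim, hst] at h1
    exact H8Props.FieldDim.withBot_nat_cancel (m := 1) (n := 1) ((add_comm _ _).trans h1.symm)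
  have hξG : ξ ∈ X.basicOpen G := hξx.mem_open (X.basicOpen G).2 hxG
  have hξE : ξ ∉ X.basicOpen E := fun hξe => by
    have h1 : z ∈ hU.fromSpec ⁻¹ᵁ X.basicOpen EU :=
      show ξ ∈ X.basicOpen EU by rw [Scheme.basicOpen_res]; exact ⟨hξU, hξe⟩
    rw [hU.fromSpec_preimage_basicOpen] at h1
    exact h1 (hq.1.2 (Ideal.mem_span_singleton_self EU))
  have hnotA : ∀ a ∈ closure ({ξ} : Set X), a ∉ (A : Set X) := by
    intro a ha haA
    have haW : a ∈ WB := fun haB => Set.disjoint_left.1 hAB haA haB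
    have hu : a ∈ X.basicOpen E := by
      rw [Scheme.mem_basicOpen _ _ a haW, show E = eval₂ (cst p WB) H R from rfl, hom_eval₂]
      rw [← Polynomial.divX_mul_X_add R, eval₂_add, eval₂_mul, eval₂_X, eval₂_C]
      have hm : ((X.presheaf.germ WB a haW).hom H) ∈ IsLocalRing.maximalIdeal (X.presheaf.stalk a) := by
        rw [IsLocalRing.mem_maximalIdeal]
        exact fun hu => hhA a haA ((Scheme.mem_basicOpen _ _ a haW).2 hu)
      have hc : IsUnit (((X.presheaf.germ WB a haW).hom.comp (cst p WB)) (R.coeff 0)) :=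
        (Ne.isUnit (by rwa [Polynomial.coeff_zero_eq_eval_zero])).map _
      by_contra hnu
      refine (IsLocalRing.mem_maximalIdeal _).1 ?_ hc
      have := Ideal.sub_mem _ ((IsLocalRing.mem_maximalIdeal _).2 hnu)
        (Ideal.mul_mem_left _ (eval₂ ((X.presheaf.germ WB a haW).hom.comp (cst p WB))
          ((X.presheaf.germ WB a haW).hom H) R.divX) hm)
      rwa [add_sub_cancel_left] at this
    exact hξE ((specializes_iff_mem_closure.2 ha).mem_open (X.basicOpen E).2 hu)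
  obtain ⟨b, hb, hbU⟩ : ∃ b ∈ closure ({ξ} : Set X), b ∉ (U : Set X) := by
    by_contra hc
    push Not at hc
    have hcl := isClosed_of_closure_subset p hU hc
    have h0 := H28Int.Curves.cdim_closed hcl
    rw [hcd] at h0
    exact absurd h0 (by decide)
  have hbB : b ∈ (B : Set X) := (hcov.le hbU).resolve_left (hnotA b hb)
  exact hgB b hbB (mem_basicOpen_of_mem p ξ (W := WA) hnotA G hb hξG)

/-- The complement of an affine open is not the disjoint union of two nonempty closed sets. -/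
theorem false_of_normal (hn : Pi1.IsNormalScheme X) (hdim : topologicalKrullDim X = 2) {U : X.Opens}
    (hU : IsAffineOpen U) (hne : (U : Set X).Nonempty) {A B : Closeds X} (hA : (A : Set X).Nonempty)
    (hB : (B : Set X).Nonempty) (hAB : Disjoint (A : Set X) B) (hcov : (U : Set X)ᶜ = (A : Set X) ∪ (B : Set X)) : False := by
  have hη : genericPoint X ∈ U := (genericPoint_specializes hne.some).mem_open U.2 hne.some_mem
  suffices key : ∀ A B : Closeds X, Disjoint (A : Set X) B → (U : Set X)ᶜ = (A : Set X) ∪ (B : Set X) → (B : Set X).Nonempty →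
      ¬ ∀ g : Γ(X, (⟨(B : Set X)ᶜ, B.isClosed.isOpen_compl⟩ : X.Opens)), ∃ Q : k[X], Q.Monic ∧ eval₂ (cst p _) g Q = 0 by
    obtain ⟨g, hg⟩ := exists_transcendental p (key B A hAB.symm (hcov.trans (Set.union_comm _ _)) hA)
    obtain ⟨h, hh⟩ := exists_transcendental p (key A B hAB hcov hB)
    exact false_of_transcendental p hdim hU hAB hcov hg hh hη
  clear A B hA hB hAB hcov
  intro A B hAB hcov hB hall
  let WA : X.Opens := ⟨(A : Set X)ᶜ, A.isClosed.isOpen_compl⟩
  let WB : X.Opens := ⟨(B : Set X)ᶜ, B.isClosed.isOpen_compl⟩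
  have hUA : U ≤ WA := fun x hx hxA => hcov.ge (Or.inl hxA) hx
  have hUB : U ≤ WB := fun x hx hxB => hcov.ge (Or.inr hxB) hx
  have hinf : WA ⊓ WB = U := Opens.ext (by
    show (A : Set X)ᶜ ∩ (B : Set X)ᶜ = U
    rw [← Set.compl_union, ← hcov, compl_compl])
  have htop : (⊤ : X.Opens) ≤ WA ⊔ WB := fun x _ => by
    by_cases hxA : x ∈ (A : Set X)
    · exact Or.inr (Set.disjoint_left.1 hAB hxA)
    · exact Or.inl hxA
  have hext : Function.Surjective (X.presheaf.map (homOfLE hUA).op).hom := by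
    intro f
    let f' : Γ(X, WA ⊓ WB) := (X.presheaf.map (homOfLE hinf.le).op).hom f
    obtain ⟨P, a, b, hP, hP0, hab⟩ := exists_monic_split p WA WB htop f'
    obtain ⟨Q, hQ, hQb⟩ := hall b
    have hη' : genericPoint X ∈ WA ⊓ WB := ⟨hUA hη, hUB hη⟩
    choose V hxV hηV s hs using fun x : WA =>
      exists_stalk_eq p hn hη' inf_le_left inf_le_right x.1 x.2 f' a b P Q hP hP0 hQ hQb hab
    obtain ⟨t, ht, -⟩ := X.sheaf.existsUnique_gluing' (fun x : WA => V x ⊓ WA) WA (fun x => homOfLE inf_le_right)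
      (fun x hx => Opens.mem_iSup.2 ⟨⟨x, hx⟩, hxV ⟨x, hx⟩, hx⟩)
      (fun x => (X.presheaf.map (homOfLE inf_le_left).op).hom (s x)) fun x y => by
        haveI : Nonempty ↥((V x ⊓ WA) ⊓ (V y ⊓ WA)) :=
          ⟨⟨genericPoint X, ⟨hηV x, hUA hη⟩, hηV y, hUA hη⟩⟩
        refine germ_injective_of_isIntegral X (genericPoint X) (U := (V x ⊓ WA) ⊓ (V y ⊓ WA))
          ⟨⟨hηV x, hUA hη⟩, hηV y, hUA hη⟩ ?_
        show atGen _ _ _ = atGen _ _ _
        exact ((atGen_res _ _ _).trans ((atGen_res _ _ _).trans (hs x))).trans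
          ((atGen_res _ _ _).trans ((atGen_res _ _ _).trans (hs y))).symm
    refine ⟨t, germ_injective_of_isIntegral X (genericPoint X) hη ?_⟩
    show atGen U hη _ = atGen U hη _
    rw [atGen_res]
    obtain ⟨x₀, hx₀⟩ : ∃ x, x ∈ WA := ⟨_, hUA hη⟩
    have h1 := congrArg (atGen (V ⟨x₀, hx₀⟩ ⊓ WA) ⟨hηV _, hUA hη⟩) (ht ⟨x₀, hx₀⟩)
    have h2 : atGen WA (hUA hη) t = atGen (WA ⊓ WB) hη' f' :=
      (atGen_res inf_le_right _ t).symm.trans (h1.trans ((atGen_res _ _ _).trans (hs ⟨x₀, hx₀⟩)))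
    exact h2.trans (atGen_res hinf.le hη' f)
  obtain ⟨b, hb⟩ := hB
  exact hcov.ge (Or.inr hb) (eq_of_extends p hU hUA hη hext
    (show b ∉ (A : Set X) from fun hbA => Set.disjoint_left.1 hAB hbA hb))

end Groth.Agent.H28Surf
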