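import Groth.Agent.H28Surf.Cycle
import Mathlib.Algebra.BigOperators.Group.Finset.Basic

/-!
# Rational configurations of curves and fundamental cycles
-/

set_option autoImplicit false
set_option linter.style.haveILetI false
set_option linter.unusedSectionVars false
set_option backward.isDefEq.respectTransparency.types false
universe u

open CategoryTheory CategoryTheory.Limits AlgebraicGeometry Opposite TopologicalSpace

namespace Groth.Agent.H28Surf

open Groth.Agent.H28Int

variable {X : Scheme.{u}} (k : Type u) [Field k] [X.Over (Spec (CommRingCat.of k))]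
  [IsProper (X ↘ Spec (CommRingCat.of k))] [Smooth (X ↘ Spec (CommRingCat.of k))] [IsIntegral X]

include k

theorem IsCurve.gen_mem {C : X.IdealSheafData} (hC : IsCurve C) :
    haveI := hC.int
    C.subschemeι (genericPoint C.subscheme) ∈ (C.support : Set X) := by
  haveI := hC.int
  rw [← hC.closure_gen]
  exact subset_closure rfl

theorem eq_of_support_subset {C D : X.IdealSheafData} (hC : IsCurve C) (hD : IsCurve D)
    (h : (C.support : Set X) ⊆ D.support) : C = D := by
  haveI := hC.int
  haveI := hD.int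
  by_contra hne
  exact genericPoint_notMem_support hC.dim hD.dim hne (h (IsCurve.gen_mem k hC))

theorem mem_support_prod {M : Multiset X.IdealSheafData} {x : X} :
    x ∈ (M.prod.support : Set X) ↔ ∃ C ∈ M, x ∈ (C.support : Set X) := by
  induction M using Multiset.induction with
  | empty => simp [Scheme.IdealSheafData.support_top]
  | cons C M ih =>
    rw [Multiset.prod_cons, Scheme.IdealSheafData.support_mul, Closeds.coe_sup, Set.mem_union, ih]
    simp

theorem IsCurve.nonempty {C : X.IdealSheafData} (hC : IsCurve C) : (C.support : Set X).Nonempty := by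
  haveI := hC.int
  exact ⟨_, IsCurve.gen_mem k hC⟩

theorem prod_ne_top {M : Multiset X.IdealSheafData} (hM : ∀ C ∈ M, IsCurve C) (h0 : M ≠ 0) : M.prod ≠ ⊤ := by
  obtain ⟨C, hC⟩ := Multiset.exists_mem_of_ne_zero h0
  obtain ⟨x, hx⟩ := (IsCurve.nonempty k (hM C hC))
  intro h
  have := (mem_support_prod k).2 ⟨C, hC, hx⟩
  rw [h, Scheme.IdealSheafData.support_top] at this
  exact this

theorem ne_zero_of_ne_top {M : Multiset X.IdealSheafData} (h : M.prod ≠ ⊤) : M ≠ 0 := fun h0 => h (by
  rw [h0, Multiset.prod_zero]; rfl)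

/-- A curve in the support of a cycle is one of its components. -/
theorem mem_of_support_subset {M : Multiset X.IdealSheafData} (hM : ∀ C ∈ M, IsCurve C) {D : X.IdealSheafData}
    (hD : IsCurve D) (h : (D.support : Set X) ⊆ M.prod.support) : D ∈ M := by
  haveI := hD.int
  obtain ⟨C, hC, hx⟩ := (mem_support_prod k).1 (h (IsCurve.gen_mem k hD))
  have hs : (D.support : Set X) ⊆ C.support :=
    hD.closure_gen ▸ closure_minimal (Set.singleton_subset_iff.2 hx) C.support.2
  exact eq_of_support_subset k hD (hM C hC) hs ▸ hC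

/-- Components of a cycle supported on given curves are among these curves. -/
theorem mem_range_of_support_subset {r : ℕ} {C : Fin r → X.IdealSheafData} (hC : ∀ i, IsCurve (C i))
    {M : Multiset X.IdealSheafData} (hM : ∀ D ∈ M, IsCurve D)
    (h : (M.prod.support : Set X) ⊆ ⋃ i, ((C i).support : Set X)) {D : X.IdealSheafData} (hDM : D ∈ M) :
    ∃ i, D = C i := by
  haveI := (hM D hDM).int
  have hx : D.subschemeι (genericPoint D.subscheme) ∈ (D.support : Set X) :=
    IsCurve.gen_mem k (hM D hDM)
  obtain ⟨i, hi⟩ := Set.mem_iUnion.1 (h ((mem_support_prod k).2 ⟨D, hDM, hx⟩))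
  exact ⟨i, eq_of_support_subset k (hM D hDM) (hC i)
    ((hM D hDM).closure_gen ▸ closure_minimal (Set.singleton_subset_iff.2 hi) (C i).support.2)⟩

variable (hdim : topologicalKrullDim X = 2)

include hdim

theorem dot_nonneg {C D : X.IdealSheafData} (hC : IsCurve C) (hD : IsCurve D) (hne : C ≠ D) : 0 ≤ dot k C D := by
  haveI := hC.int
  haveI := hD.int
  rw [dot_eq k hdim (isEffCartier_curve k hdim hC) (isEffCartier_curve k hdim hD)]
  exact D_idealMod_nonneg k C.subschemeι ((dim_subscheme C).trans hC.dim).le D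
    (isInvertible_ideal k (isEffCartier_curve k hdim hD)) (genericPoint_notMem_support hC.dim hD.dim hne)

theorem dot_prod_nonneg {M : Multiset X.IdealSheafData} (hM : ∀ C ∈ M, IsCurve C) {D : X.IdealSheafData}
    (hD : IsCurve D) (hDM : D ∉ M) : 0 ≤ dot k M.prod D := by
  rw [dot_prod_left k hdim hM (isEffCartier_curve k hdim hD)]
  refine Multiset.sum_nonneg fun a ha => ?_
  obtain ⟨C, hC, rfl⟩ := Multiset.mem_map.1 ha
  exact dot_nonneg k hdim (hM C hC) hD fun h => hDM (h ▸ hC)

theorem dot_prod_right {M : Multiset X.IdealSheafData} (hM : ∀ C ∈ M, IsCurve C) {B : X.IdealSheafData}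
    (hB : FGA.IsEffCartier B) : dot k B M.prod = (M.map fun C => dot k B C).sum := by
  rw [symm k hdim hB (isEffCartier_prod k hdim M hM), dot_prod_left k hdim hM hB]
  exact congrArg Multiset.sum (Multiset.map_congr rfl fun C hC =>
    symm k hdim (isEffCartier_curve k hdim (hM C hC)) hB)

theorem euler_top : Curv2.euler k X (ClSub.quotMod (⊤ : X.IdealSheafData)) = 0 := by
  have h1 : BlowUp.IsEffCartierIdeal (⊤ : X.IdealSheafData) := H29Blow.isEffCartierIdeal_top
  have h := euler_mul k hdim h1 h1
  rw [Scheme.IdealSheafData.top_mul, dot_top_left k hdim h1] at h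
  omega

/-- The Euler characteristic of a cycle. -/
theorem two_mul_euler_prod {M : Multiset X.IdealSheafData} (hM : ∀ C ∈ M, IsCurve C) :
    2 * Curv2.euler k X (ClSub.quotMod M.prod) =
      (M.map fun C => 2 * Curv2.euler k X (ClSub.quotMod C) + dot k C C).sum - dot k M.prod M.prod := by
  induction M using Multiset.induction with
  | empty =>
    rw [Multiset.prod_zero, Multiset.map_zero, Multiset.sum_zero]
    show 2 * Curv2.euler k X (ClSub.quotMod (⊤ : X.IdealSheafData)) = 0 - dot k ⊤ ⊤
    rw [euler_top k hdim, dot_top_left k hdim H29Blow.isEffCartierIdeal_top]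
    rfl
  | cons C M ih =>
    have hM' : ∀ D ∈ M, IsCurve D := fun D hD => hM D (Multiset.mem_cons_of_mem hD)
    have hC := isEffCartier_curve k hdim (hM C (Multiset.mem_cons_self C M))
    have hP := isEffCartier_prod k hdim M hM'
    have hPC : FGA.IsEffCartier (M.prod * C) := H28Vert.isEffCartierIdeal_mul hP hC
    rw [Multiset.prod_cons, mul_comm C M.prod, Multiset.map_cons, Multiset.sum_cons, euler_mul k hdim hP hC,
      dot_mul_left k hdim hP hC hPC, dot_mul_right k hdim hP hC hP, dot_mul_right k hdim hP hC hC,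
      symm k hdim hC hP]
    have := ih hM'
    omega

theorem one_le_finrank_zero {A : X.IdealSheafData} (hne : (A.support : Set X).Nonempty) :
    1 ≤ Module.finrank k (Coh.HH X (ClSub.quotMod A) 0) := by
  haveI := H28Int.isNoetherian k (X := X)
  haveI := H10Coh.finite_HH_proper k X _ (isCoh_quot k A) 0
  obtain ⟨x, hx⟩ := hne
  obtain ⟨z, -⟩ : x ∈ Set.range A.subschemeι := A.range_subschemeι.ge hx
  haveI : Nonempty ↥(⊤ : A.subscheme.Opens) := ⟨⟨z, trivial⟩⟩
  haveI : Nontrivial (Coh.HH X (ClSub.quotMod A) 0) := by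
    haveI : Nontrivial Γ(ClSub.quotMod A, ⊤) := inferInstanceAs (Nontrivial Γ(A.subscheme, ⊤))
    exact (H10Coh.HH0Equiv (ClSub.quotMod A)).toEquiv.nontrivial
  exact Module.finrank_pos

/-- Cohomology in degree one passes to smaller divisors. -/
theorem subsingleton_one_of_mul {A B : X.IdealSheafData} (hA : FGA.IsEffCartier A) (hB : FGA.IsEffCartier B)
    (h : Subsingleton (Coh.HH X (ClSub.quotMod (A * B)) 1)) : Subsingleton (Coh.HH X (ClSub.quotMod A) 1) := by
  have hker : BlowUp.IsEffCartierIdeal B.subschemeι.ker := by rw [B.ker_subschemeι]; exact hB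
  obtain ⟨S, hS, ⟨e₁⟩, e₂, e₃⟩ := H28Vert.exists_ses B.subschemeι hker A hA
  obtain ⟨eA⟩ := nonempty_quot_tensor_iso k B (isInvertible_ideal k hA)
  haveI := H28Int.isNoetherian k (X := X)
  have e' := e₁ ≪≫ eA.symm
  have h1 : Subsingleton (Coh.HH X S.X₁ 2) := subsingleton_HH_two k hdim hB
    (H10Coh.isCoh_of_iso e'.symm (H11Ample.isCoh_tensor (isCoh_quot k B) (isInvertible_ideal k hA)))
    (fun x hx => (support_quot k B).subset (H25Euler.support_tensor_subset _ _ (LeadDev.support_subset_of_iso e' hx)))
    le_rfl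
  rw [← e₃]
  refine subsingleton_HH_right k hS 1 ?_ h1
  rw [e₂, B.ker_subschemeι]
  exact h

theorem subsingleton_HH_one_top : Subsingleton (Coh.HH X (ClSub.quotMod (⊤ : X.IdealSheafData)) 1) := by
  haveI := H28Int.isNoetherian k (X := X)
  refine H25Par.subsingleton_HH_of_finite_support (ClSub.quotMod (⊤ : X.IdealSheafData)) (S := ∅) Set.finite_empty
    (fun z hz => hz.elim) (fun y hy => ?_) one_pos
  by_contra hne
  have h := (support_quot k (⊤ : X.IdealSheafData)).subset hne
  rw [Scheme.IdealSheafData.support_top] at h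
  exact h

/-- Artin's criterion. -/
theorem subsingleton_one_of_euler [IsAlgClosed k] : ∀ (n : ℕ) (M : Multiset X.IdealSheafData), M.card = n →
    (∀ C ∈ M, IsCurve C) → (∀ N ≤ M, N ≠ 0 → 1 ≤ Curv2.euler k X (ClSub.quotMod N.prod)) →
    Subsingleton (Coh.HH X (ClSub.quotMod M.prod) 1) := by
  classical
  intro n
  induction n using Nat.strong_induction_on with
  | _ n ih =>
  intro M hn hM hχ
  haveI := H28Int.isNoetherian k (X := X)
  by_cases h0 : M = 0
  · subst h0
    rw [Multiset.prod_zero]
    exact subsingleton_HH_one_top k hdim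
  have hone : ∀ C ∈ M, Curv2.euler k X (ClSub.quotMod C) = 1 := fun C hC => by
    have h := hχ {C} (Multiset.singleton_le.2 hC) (Multiset.singleton_ne_zero C)
    rw [Multiset.prod_singleton] at h
    exact le_antisymm (euler_le_one k hdim (hM C hC)).1 h
  obtain ⟨C, hC, hle⟩ : ∃ C ∈ M, dot k (M.erase C).prod C ≤ 1 := by
    by_contra hcon
    push Not at hcon
    have h2 := two_mul_euler_prod k hdim hM
    rw [dot_prod_right k hdim hM (isEffCartier_prod k hdim M hM), ← Multiset.sum_map_sub] at h2
    have hs : (M.map fun C => (2 * Curv2.euler k X (ClSub.quotMod C) + dot k C C) - dot k M.prod C).sum ≤ 0 := by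
      refine (Multiset.sum_map_le_sum_map _ (fun _ => (0 : ℤ)) fun C hC => ?_).trans (by simp)
      have hsplit : dot k M.prod C = dot k C C + dot k (M.erase C).prod C := by
        conv_lhs => rw [← Multiset.cons_erase hC, Multiset.prod_cons]
        exact dot_mul_left k hdim (isEffCartier_curve k hdim (hM C hC))
          (isEffCartier_prod k hdim _ fun D hD => hM D (Multiset.mem_of_mem_erase hD))
          (isEffCartier_curve k hdim (hM C hC))
      have := hcon C hC
      have := hone C hC
      omega
    have := hχ M le_rfl h0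
    omega
  let N := M.erase C
  have hN : ∀ D ∈ N, IsCurve D := fun D hD => hM D (Multiset.mem_of_mem_erase hD)
  have hMN : M.prod = N.prod * C := by
    conv_lhs => rw [← Multiset.cons_erase hC, Multiset.prod_cons, mul_comm]
  have hNp := isEffCartier_prod k hdim N hN
  have hCe := isEffCartier_curve k hdim (hM C hC)
  have hNcard : N.card < n := hn ▸ Multiset.card_erase_lt_of_mem hC
  have hIH := ih N.card hNcard N rfl hN fun N' hN' => hχ N' (hN'.trans (Multiset.erase_le C M))
  have hker : BlowUp.IsEffCartierIdeal C.subschemeι.ker := by rw [C.ker_subschemeι]; exact hCe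
  obtain ⟨S, hS, ⟨e₁⟩, e₂, e₃⟩ := H28Vert.exists_ses C.subschemeι hker N.prod hNp
  obtain ⟨eA⟩ := nonempty_quot_tensor_iso k C (isInvertible_ideal k hNp)
  haveI h1 : Subsingleton (Coh.HH X (CohB1.tensorMod (ClSub.quotMod C) (ClSub.idealMod N.prod)) 1) :=
    subsingleton_one_of_deg k hdim (hM C hC) (hone C hC) (isInvertible_ideal k hNp)
      (by rw [degOn_ideal k hdim hNp hCe]; show -1 ≤ -dot k (M.erase C).prod C; omega)
  have h3 := subsingleton_HH_ext k hS 1 ((H29RR.hhIso (k := k) (e₁ ≪≫ eA.symm) 1).toEquiv.subsingleton)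
    (e₃ ▸ hIH)
  rw [e₂, C.ker_subschemeι, ← hMN] at h3
  exact h3

end Groth.Agent.H28Surf
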