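import Groth.Agent.H28Surf.Pair

/-!
# The Hodge index theorem
-/

set_option autoImplicit false
set_option linter.style.haveILetI false
set_option linter.unusedSectionVars false
set_option backward.isDefEq.respectTransparency.types false
universe u

open CategoryTheory CategoryTheory.Limits AlgebraicGeometry Opposite TopologicalSpace

namespace Groth.Agent.H28Surf

open Groth.Agent.H28Int

variable {X : Scheme.{u}} (k : Type u) [Field k] [X.Over (Spec (CommRingCat.of k))]
  [IsProper (X ↘ Spec (CommRingCat.of k))] [Smooth (X ↘ Spec (CommRingCat.of k))] [IsIntegral X]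

include k

/-- The intersection form is negative semidefinite on the orthogonal of a class of positive square. -/
theorem pr_self_nonpos_of_orth [IsAlgClosed k] (hdim : topologicalKrullDim X = 2) {H L M : X.Modules}
    (hH : CohB1.IsAmple H) (hL : PicF.IsInvertible L) (hM : PicF.IsInvertible M) (hpos : 0 < pr k L L)
    (horth : pr k L M = 0) : pr k M M ≤ 0 := by
  have hHi := (H11Ample.isAmple_iff.1 hH).1
  -- a sign adjustment of a class
  have adj : ∀ A : X.Modules, PicF.IsInvertible A → ∃ A' : X.Modules, PicF.IsInvertible A' ∧ 0 ≤ pr k A' H ∧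
      pr k A' A' = pr k A A ∧ ∀ B, PicF.IsInvertible B → pr k A B = 0 → pr k A' B = 0 := by
    intro A hA
    rcases le_total 0 (pr k A H) with h | h
    · exact ⟨A, hA, h, rfl, fun _ _ h' => h'⟩
    · obtain ⟨A', hA', ⟨e₀⟩⟩ := H11Sym.exists_inverse hA
      let e := H10Coh.Tw.commIso A A' ≪≫ e₀
      refine ⟨A', hA', ?_, ?_, fun B hB h' => ?_⟩
      · rw [pr_inv_left k hdim hA hA' hHi e]; omega
      · rw [pr_inv_left k hdim hA hA' hA' e, pr_symm k A A', pr_inv_left k hdim hA hA' hA e, neg_neg]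
      · rw [pr_inv_left k hdim hA hA' hB e, h', neg_zero]
  obtain ⟨L₁, hL₁, hL₁H, hLsq, hLB⟩ := adj L hL
  obtain ⟨M₁, hM₁, hM₁H, hMsq, hMB⟩ := adj M hM
  obtain ⟨M₂, hM₂, ⟨e₀⟩⟩ := H11Sym.exists_inverse hM₁
  let e := H10Coh.Tw.commIso M₁ M₂ ≪≫ e₀
  obtain ⟨a, ha⟩ := Int.eq_ofNat_of_zero_le hL₁H
  obtain ⟨b, hb⟩ := Int.eq_ofNat_of_zero_le hM₁H
  have ha0 : a ≠ 0 := fun h0 => by
    have := pr_self_nonpos k hdim hH hL₁ (by rw [ha, h0]; rfl)
    omega
  let P := CohB1.tensorPow L₁ b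
  let Q := CohB1.tensorPow M₂ a
  have hP : PicF.IsInvertible P := H11Ample.isInvertible_tensorPow hL₁ b
  have hQ : PicF.IsInvertible Q := H11Ample.isInvertible_tensorPow hM₂ a
  have hN : PicF.IsInvertible (CohB1.tensorMod P Q) := H11Ample.isInvertible_tensor hP hQ
  have h21 : pr k M₂ H = -(b : ℤ) := by rw [pr_inv_left k hdim hM₁ hM₂ hHi e, hb]
  have hNH : pr k (CohB1.tensorMod P Q) H = 0 := by
    rw [pr_tensor_left k hdim hP hQ hHi, pr_pow_left k hdim hL₁ hHi, pr_pow_left k hdim hM₂ hHi, ha, h21]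
    ring
  have hLM : pr k L₁ M₂ = 0 := by
    rw [pr_symm k, pr_inv_left k hdim hM₁ hM₂ hL₁ e, pr_symm k M₁, hLB M₁ hM₁ (by
      rw [pr_symm k]; exact hMB L hL (by rw [pr_symm k]; exact horth)), neg_zero]
  have h22 : pr k M₂ M₂ = pr k M M := by
    rw [pr_inv_left k hdim hM₁ hM₂ hM₂ e, pr_symm k M₁ M₂, pr_inv_left k hdim hM₁ hM₂ hM₁ e, neg_neg, hMsq]
  have h := pr_self_nonpos k hdim hH hN hNH
  rw [pr_tensor_left k hdim hP hQ hN, pr_pow_left k hdim hL₁ hN, pr_pow_left k hdim hM₂ hN, pr_symm k L₁,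
    pr_symm k M₂, pr_tensor_left k hdim hP hQ hL₁, pr_tensor_left k hdim hP hQ hM₂,
    pr_pow_left k hdim hL₁ hL₁, pr_pow_left k hdim hM₂ hL₁, pr_pow_left k hdim hL₁ hM₂,
    pr_pow_left k hdim hM₂ hM₂, hLM, pr_symm k M₂ L₁, hLM, hLsq, h22] at h
  by_contra hc
  push Not at hc
  have h1 : 0 ≤ (b : ℤ) * ((b : ℤ) * pr k L L) := by positivity
  have h2 : 0 < (a : ℤ) * ((a : ℤ) * pr k M M) := by
    have : (0 : ℤ) < a := by omega
    positivity
  simp only [mul_zero, add_zero, zero_add] at h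
  omega

end Groth.Agent.H28Surf
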