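import Groth.Agent.H28Surf.CurveDecomp
import Groth.Agent.H28Vert.Filtration
import Groth.Agent.H28Vert.Symm
import Groth.Agent.H28Vert.QuotTensor
import Groth.Agent.H28Int.Vanishing
import Groth.Agent.H28Int.Num
import Groth.Agent.H29RR.RiemannRoch
import Groth.Agent.H25Par.FibKer
import Groth.Agent.H10Coh.AmpleDevissage
import Groth.Agent.H28Surf.DivisorH1
import Groth.Agent.H28Vert.Genus

/-!
# Cohomology of cycles of curves on a surface
-/

set_option autoImplicit false
set_option linter.style.haveILetI false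
set_option linter.unusedSectionVars false
set_option backward.isDefEq.respectTransparency.types false
universe u

open CategoryTheory CategoryTheory.Limits AlgebraicGeometry Opposite TopologicalSpace
open Groth.Agent.H8Props.FieldDim (cdim)

namespace Groth.Agent.H28Surf

open Groth.Agent.H28Int

variable {X : Scheme.{u}} (k : Type u) [Field k] [X.Over (Spec (CommRingCat.of k))]
  [IsProper (X ↘ Spec (CommRingCat.of k))] [Smooth (X ↘ Spec (CommRingCat.of k))] [IsIntegral X]

include k

/-- The intersection number of two ideals. -/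
noncomputable abbrev dot (A B : X.IdealSheafData) : ℤ :=
  FGA.intNum k X 2 ![ClSub.idealMod A, ClSub.idealMod B] (Coh.structureModule X)

/-- The degree of an invertible module on a curve. -/
noncomputable abbrev degOn (C : X.IdealSheafData) (L : X.Modules) : ℤ :=
  Curv2.euler k X (CohB1.tensorMod (ClSub.quotMod C) L) - Curv2.euler k X (ClSub.quotMod C)

theorem degOn_eq (C : X.IdealSheafData) (L : X.Modules) :
    degOn k C L = - D k [L] (ClSub.quotMod C) := by
  show _ = -(Curv2.euler k X _ - Curv2.euler k X _)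
  rw [H25Euler.euler_congr (H10Coh.Tw.commIso L (ClSub.quotMod C))]
  unfold degOn
  omega

theorem isInvertible_ideal {A : X.IdealSheafData} (hA : FGA.IsEffCartier A) :
    PicF.IsInvertible (ClSub.idealMod A) :=
  H29Blow.isInvertible_of_isEffCartierIdeal A hA

theorem isCoh_quot (A : X.IdealSheafData) : Coh.IsCoh (ClSub.quotMod A) :=
  haveI := H28Int.isNoetherian k (X := X)
  LeadDev.isCoh_push_structure A.subschemeι

theorem support_quot (A : X.IdealSheafData) :
    CohB1.support (ClSub.quotMod A) = (A.support : Set X) := by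
  rw [← H28Vert.support_cokernel_idealModι A]
  exact Set.Subset.antisymm (LeadDev.support_subset_of_iso (H28Vert.cokernelIdealModιIso A).symm)
    (LeadDev.support_subset_of_iso (H28Vert.cokernelIdealModιIso A))

theorem dim_support_le_one (hdim : topologicalKrullDim X = 2) {A : X.IdealSheafData} (hA : FGA.IsEffCartier A) :
    topologicalKrullDim (A.support : Set X) ≤ ((1 : ℕ) : WithBot ℕ∞) := by
  have h := dim_lt_of_notMem (C := Set.univ) (genericPoint_spec X) (n := 2)
    (Topology.IsInducing.subtypeVal.topologicalKrullDim_le.trans hdim.le) A.support.2 (fun _ _ => trivial)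
    (genericPoint_notMem_of_isEffCartier hA)
  rcases hd : topologicalKrullDim (A.support : Set X) with _ | m
  · exact bot_le
  · exact WithBot.coe_le_coe.2 ((ENat.lt_natCast_add_one_iff (n := 1)).1 (WithBot.coe_lt_coe.1 (lt_of_eq_of_lt hd.symm h)))

theorem symm (hdim : topologicalKrullDim X = 2) {A B : X.IdealSheafData} (hA : FGA.IsEffCartier A)
    (hB : FGA.IsEffCartier B) : dot k A B = dot k B A := by
  haveI := H28Int.isNoetherian k (X := X)
  have hO := H10Coh.isCoh_structureModule' X
  show FGA.intNum k X 2 _ _ = FGA.intNum k X 2 _ _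
  rw [intNum_eq k (d := 2) hdim.le _ (fun t => by fin_cases t <;> first | exact isInvertible_ideal k hA | exact isInvertible_ideal k hB) hO,
    intNum_eq k hdim.le _ (fun t => by fin_cases t <;> first | exact isInvertible_ideal k hA | exact isInvertible_ideal k hB) hO]
  exact H28Int.Num.D_swap k (l := []) (by simp) _

theorem dot_eq (hdim : topologicalKrullDim X = 2) {A B : X.IdealSheafData} (hA : FGA.IsEffCartier A)
    (hB : FGA.IsEffCartier B) : dot k A B = D k [ClSub.idealMod B] (ClSub.quotMod A) :=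
  intNum_idealMod k hdim.le A (isInvertible_ideal k hA) (isInvertible_ideal k hB)

theorem degOn_ideal (hdim : topologicalKrullDim X = 2) {A C : X.IdealSheafData} (hA : FGA.IsEffCartier A)
    (hC : FGA.IsEffCartier C) : degOn k C (ClSub.idealMod A) = - dot k A C := by
  rw [degOn_eq, symm k hdim hA hC, dot_eq k hdim hC hA]

theorem degOn_congr (C : X.IdealSheafData) {L L' : X.Modules} (e : L ≅ L') : degOn k C L = degOn k C L' := by
  show _ - _ = _ - _
  rw [H25Euler.euler_congr (PicGrp.tensorModIso (Iso.refl (ClSub.quotMod C)) e)]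

theorem degOn_tensor (hdim : topologicalKrullDim X = 2) {C : X.IdealSheafData} (hC : FGA.IsEffCartier C)
    {L M : X.Modules} (hL : PicF.IsInvertible L) (hM : PicF.IsInvertible M) :
    degOn k C (CohB1.tensorMod L M) = degOn k C L + degOn k C M := by
  haveI := H28Int.isNoetherian k (X := X)
  rw [degOn_eq, degOn_eq, degOn_eq, D_cons_tensor k (by simp) hL hM (isCoh_quot k C)
    (by rw [support_quot k]; exact dim_support_le_one k hdim hC)]
  omega

theorem degOn_structure (C : X.IdealSheafData) : degOn k C (Coh.structureModule X) = 0 := by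
  show _ - _ = _
  rw [H25Euler.euler_congr (H10Coh.Tw.rightUnitIso (ClSub.quotMod C)), sub_self]

theorem dot_mul_left (hdim : topologicalKrullDim X = 2) {A B C : X.IdealSheafData} (hA : FGA.IsEffCartier A)
    (hB : FGA.IsEffCartier B) (hC : FGA.IsEffCartier C) : dot k (A * B) C = dot k A C + dot k B C := by
  have hAB : FGA.IsEffCartier (A * B) := H28Vert.isEffCartierIdeal_mul hA hB
  have h1 := degOn_ideal k hdim hAB hC
  have h2 := degOn_ideal k hdim hA hC
  have h3 := degOn_ideal k hdim hB hC
  obtain ⟨e⟩ := H28Vert.nonempty_idealMod_mul hA hB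
  rw [← degOn_congr k C e, degOn_tensor k hdim hC (isInvertible_ideal k hA) (isInvertible_ideal k hB)] at h1
  omega

theorem dot_mul_right (hdim : topologicalKrullDim X = 2) {A B C : X.IdealSheafData} (hA : FGA.IsEffCartier A)
    (hB : FGA.IsEffCartier B) (hC : FGA.IsEffCartier C) : dot k C (A * B) = dot k C A + dot k C B := by
  have hAB : FGA.IsEffCartier (A * B) := H28Vert.isEffCartierIdeal_mul hA hB
  rw [symm k hdim hC hAB, symm k hdim hC hA, symm k hdim hC hB, dot_mul_left k hdim hA hB hC]

theorem dot_top_left (hdim : topologicalKrullDim X = 2) {C : X.IdealSheafData} (hC : FGA.IsEffCartier C) :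
    dot k ⊤ C = 0 := by
  have h1 : BlowUp.IsEffCartierIdeal (⊤ : X.IdealSheafData) := H29Blow.isEffCartierIdeal_top
  have h := dot_mul_left k hdim h1 h1 hC
  rw [Scheme.IdealSheafData.top_mul] at h
  omega

theorem dot_prod_left (hdim : topologicalKrullDim X = 2) {M : Multiset X.IdealSheafData}
    (hM : ∀ C ∈ M, IsCurve C) {B : X.IdealSheafData} (hB : FGA.IsEffCartier B) :
    dot k M.prod B = (M.map fun C => dot k C B).sum := by
  induction M using Multiset.induction with
  | empty => rw [Multiset.prod_zero, Multiset.map_zero, Multiset.sum_zero]; exact dot_top_left k hdim hB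
  | cons C M ih =>
    have hM' : ∀ D ∈ M, IsCurve D := fun D hD => hM D (Multiset.mem_cons_of_mem hD)
    rw [Multiset.prod_cons, dot_mul_left k hdim (isEffCartier_curve k hdim (hM C (Multiset.mem_cons_self C M)))
      (isEffCartier_prod k hdim M hM') hB, ih hM', Multiset.map_cons, Multiset.sum_cons]

/-- Twisting a module on a closed subscheme. -/
theorem nonempty_quot_tensor_iso (C : X.IdealSheafData) {L : X.Modules} (hL : PicF.IsInvertible L) :
    Nonempty (CohB1.tensorMod (ClSub.quotMod C) L ≅
      (Coh.push C.subschemeι).obj ((Scheme.Modules.pullback C.subschemeι).obj L)) := by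
  haveI : (Coh.structureModule C.subscheme).IsQuasicoherent := H10Coh.isQuasicoherent_unit
  obtain ⟨e⟩ := H10Coh.Tw.nonempty_push_tensor_iso C.subschemeι (Coh.structureModule C.subscheme) hL
  exact ⟨e ≪≫ (Coh.push C.subschemeι).mapIso (H10Coh.Tw.leftUnitIso _)⟩

/-- The twisted sequence of adding a curve to a divisor. -/
theorem exists_seq (C A : X.IdealSheafData) (hC : FGA.IsEffCartier C) (hA : FGA.IsEffCartier A)
    {L : X.Modules} (hL : PicF.IsInvertible L) :
    ∃ S : ShortComplex X.Modules, S.ShortExact ∧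
      Nonempty (S.X₁ ≅ CohB1.tensorMod (ClSub.quotMod C) (CohB1.tensorMod (ClSub.idealMod A) L)) ∧
      S.X₂ = CohB1.tensorMod (ClSub.quotMod (A * C)) L ∧ S.X₃ = CohB1.tensorMod (ClSub.quotMod A) L := by
  have hker : BlowUp.IsEffCartierIdeal C.subschemeι.ker := by rw [C.ker_subschemeι]; exact hC
  obtain ⟨S, hS, ⟨e₁⟩, e₂, e₃⟩ := H28Vert.exists_ses C.subschemeι hker A hA
  obtain ⟨eA⟩ := nonempty_quot_tensor_iso k C (isInvertible_ideal k hA)
  refine ⟨S.map ((DCoh.tensorBi (X := X)).flip.obj L), H28Int.tensor_shortExact hS hL,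
    ⟨PicGrp.tensorModIso (e₁ ≪≫ eA.symm) (Iso.refl L) ≪≫ H10Coh.Tw.assoc _ _ _⟩, ?_, ?_⟩
  · show CohB1.tensorMod S.X₂ L = _
    rw [e₂, C.ker_subschemeι]
  · show CohB1.tensorMod S.X₃ L = _
    rw [e₃]

/-- Adding a curve to a divisor. -/
theorem euler_mul (hdim : topologicalKrullDim X = 2) {A C : X.IdealSheafData} (hA : FGA.IsEffCartier A)
    (hC : FGA.IsEffCartier C) :
    Curv2.euler k X (ClSub.quotMod (A * C)) =
      Curv2.euler k X (ClSub.quotMod A) + Curv2.euler k X (ClSub.quotMod C) - dot k A C := by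
  haveI := H28Int.isNoetherian k (X := X)
  have hker : BlowUp.IsEffCartierIdeal C.subschemeι.ker := by rw [C.ker_subschemeι]; exact hC
  obtain ⟨S, hS, ⟨e₁⟩, e₂, e₃⟩ := H28Vert.exists_ses C.subschemeι hker A hA
  obtain ⟨eA⟩ := nonempty_quot_tensor_iso k C (isInvertible_ideal k hA)
  have h₁ : Coh.IsCoh S.X₁ := H10Coh.isCoh_of_iso (e₁ ≪≫ eA.symm).symm
    (H11Ample.isCoh_tensor (isCoh_quot k C) (isInvertible_ideal k hA))
  have h := (isAddFn_euler k).add S hS h₁ (e₂ ▸ isCoh_quot k _) (e₃ ▸ isCoh_quot k _)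
  rw [e₂, e₃, C.ker_subschemeι, H25Euler.euler_congr (e₁ ≪≫ eA.symm)] at h
  have h2 := degOn_ideal k hdim hA hC
  change Curv2.euler k X _ - Curv2.euler k X _ = _ at h2
  omega

/-- Cohomology of modules on a divisor vanishes above degree one. -/
theorem subsingleton_HH_two (hdim : topologicalKrullDim X = 2) {A : X.IdealSheafData} (hA : FGA.IsEffCartier A)
    {F : X.Modules} (hF : Coh.IsCoh F) (hs : CohB1.support F ⊆ (A.support : Set X)) {p : ℕ} (hp : 2 ≤ p) :
    Subsingleton (Coh.HH X F p) := by
  haveI := H28Int.isNoetherian k (X := X)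
  haveI : X.IsSeparated := ⟨by
    rw [show terminal.from X = (X ↘ Spec (CommRingCat.of k)) ≫ terminal.from _ from terminal.hom_ext _ _]
    infer_instance⟩
  haveI := subsingleton_HnM_of_support A.support 1 (dim_support_le_one k hdim hA) F hF.1 hs p (by omega)
  exact (H10Coh.HHEquiv F p).toEquiv.subsingleton

theorem euler_eq_sub' (hdim : topologicalKrullDim X = 2) {A : X.IdealSheafData} (hA : FGA.IsEffCartier A)
    {F : X.Modules} (hF : Coh.IsCoh F) (hs : CohB1.support F ⊆ (A.support : Set X)) :
    Curv2.euler k X F =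
      (Module.finrank k (Coh.HH X F 0) : ℤ) - (Module.finrank k (Coh.HH X F 1) : ℤ) := by
  rw [H25Euler.euler_eq_sum F 2 fun p hp => subsingleton_HH_two k hdim hA hF hs hp, Finset.sum_range_succ,
    Finset.sum_range_one, pow_zero, one_mul, pow_one, neg_one_mul, sub_eq_add_neg]

theorem subsingleton_HH_ext {S : ShortComplex X.Modules} (hS : S.ShortExact) (n : ℕ)
    (h₁ : Subsingleton (Coh.HH X S.X₁ n)) (h₃ : Subsingleton (Coh.HH X S.X₃ n)) :
    Subsingleton (Coh.HH X S.X₂ n) := by
  haveI := (H10Coh.HHEquiv S.X₁ n).symm.toEquiv.subsingleton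
  haveI := (H10Coh.HHEquiv S.X₃ n).symm.toEquiv.subsingleton
  exact @Equiv.subsingleton _ _ (H10Coh.HHEquiv S.X₂ n).toEquiv
    (H10Coh.Tw.subsingleton_X₂ (U := (⊤ : X.Opens)) (H10Coh.shortExact_sh hS) (n := n) ‹_› ‹_›)

theorem subsingleton_HH_right {S : ShortComplex X.Modules} (hS : S.ShortExact) (n : ℕ)
    (h₂ : Subsingleton (Coh.HH X S.X₂ n)) (h₁ : Subsingleton (Coh.HH X S.X₁ (n + 1))) :
    Subsingleton (Coh.HH X S.X₃ n) := by
  haveI := (H10Coh.HHEquiv S.X₂ n).symm.toEquiv.subsingleton
  haveI := (H10Coh.HHEquiv S.X₁ (n + 1)).symm.toEquiv.subsingleton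
  exact @Equiv.subsingleton _ _ (H10Coh.HHEquiv S.X₃ n).toEquiv
    (H10Coh.Tw.subsingleton_X₃ (U := (⊤ : X.Opens)) (H10Coh.shortExact_sh hS) (n := n) ‹_› ‹_›)

/-- Global sections are subadditive. -/
theorem finrank_zero_le {S : ShortComplex X.Modules} (hS : S.ShortExact) (h₁ : Coh.IsCoh S.X₁)
    (h₂ : Coh.IsCoh S.X₂) (h₃ : Coh.IsCoh S.X₃) :
    Module.finrank k (Coh.HH X S.X₂ 0) ≤ Module.finrank k (Coh.HH X S.X₁ 0) + Module.finrank k (Coh.HH X S.X₃ 0) := by
  haveI := H28Int.isNoetherian k (X := X)
  haveI := H10Coh.finite_HH_proper k X _ h₁ 0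
  haveI := H10Coh.finite_HH_proper k X _ h₂ 0
  haveI := H10Coh.finite_HH_proper k X _ h₃ 0
  have h := LinearMap.finrank_range_add_finrank_ker (Canon.HHlin k S.g 0)
  have ha : Module.finrank k (LinearMap.ker (Canon.HHlin k S.g 0)) ≤ Module.finrank k (Coh.HH X S.X₁ 0) := by
    rw [H25Par.hhlin_exact (k := k) hS]; exact LinearMap.finrank_range_le _
  have hb : Module.finrank k (LinearMap.range (Canon.HHlin k S.g 0)) ≤ Module.finrank k (Coh.HH X S.X₃ 0) :=
    Submodule.finrank_le _
  omega

section curve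

variable {C : X.IdealSheafData}

/-- The degree on a curve is the degree of the pullback. -/
theorem degOn_eq_deg (hC : IsCurve C) {L : X.Modules} (hL : PicF.IsInvertible L) :
    letI : C.subscheme.Over (Spec (CommRingCat.of k)) := ⟨C.subschemeι ≫ (X ↘ Spec (CommRingCat.of k))⟩
    degOn k C L = Curv2.deg k C.subscheme ((Scheme.Modules.pullback C.subschemeι).obj L) 1 := by
  letI : C.subscheme.Over (Spec (CommRingCat.of k)) := ⟨C.subschemeι ≫ (X ↘ Spec (CommRingCat.of k))⟩
  show degOn k C L = _
  haveI : ((Scheme.Modules.pullback C.subschemeι).obj L).IsQuasicoherent :=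
    (H11Ample.isCoh_of_isInvertible (H11Ample.isInvertible_pullback C.subschemeι hL)).1
  haveI : (Coh.structureModule C.subscheme).IsQuasicoherent := H10Coh.isQuasicoherent_unit
  obtain ⟨e⟩ := nonempty_quot_tensor_iso k C hL
  show Curv2.euler k X _ - Curv2.euler k X _ = _
  rw [H25Euler.euler_congr e, Push.euler_push k C.subschemeι rfl _, Push.euler_push k C.subschemeι rfl _,
    Curv2.deg, Nat.cast_one, one_mul]

/-- Cohomology of twists of a curve computed on the curve. -/
theorem finrank_quot_tensor (hC : IsCurve C) {L : X.Modules} (hL : PicF.IsInvertible L) (n : ℕ) :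
    letI : C.subscheme.Over (Spec (CommRingCat.of k)) := ⟨C.subschemeι ≫ (X ↘ Spec (CommRingCat.of k))⟩
    Module.finrank k (Coh.HH X (CohB1.tensorMod (ClSub.quotMod C) L) n) =
      Module.finrank k (Coh.HH C.subscheme ((Scheme.Modules.pullback C.subschemeι).obj L) n) := by
  letI : C.subscheme.Over (Spec (CommRingCat.of k)) := ⟨C.subschemeι ≫ (X ↘ Spec (CommRingCat.of k))⟩
  haveI : ((Scheme.Modules.pullback C.subschemeι).obj L).IsQuasicoherent :=
    (H11Ample.isCoh_of_isInvertible (H11Ample.isInvertible_pullback C.subschemeι hL)).1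
  obtain ⟨e⟩ := nonempty_quot_tensor_iso k C hL
  rw [(H29RR.hhIso (k := k) e n).finrank_eq]
  exact Push.finrank_HH_push k C.subschemeι rfl _ n

/-- A negative module has no sections on a curve. -/
theorem subsingleton_zero_of_neg (hC : IsCurve C) {L : X.Modules} (hL : PicF.IsInvertible L)
    (hd : degOn k C L < 0) : Subsingleton (Coh.HH X (CohB1.tensorMod (ClSub.quotMod C) L) 0) := by
  letI : C.subscheme.Over (Spec (CommRingCat.of k)) := ⟨C.subschemeι ≫ (X ↘ Spec (CommRingCat.of k))⟩
  haveI : IsProper (C.subscheme ↘ Spec (CommRingCat.of k)) :=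
    inferInstanceAs (IsProper (C.subschemeι ≫ (X ↘ Spec (CommRingCat.of k))))
  haveI := hC.int
  haveI := H28Int.isNoetherian k (X := X)
  have hP := H11Ample.isInvertible_pullback C.subschemeι hL
  haveI := H10Coh.finite_HH_proper k X _ (H11Ample.isCoh_tensor (isCoh_quot k C) hL) 0
  haveI := H29RR.finite_HH (k := k) _ hP 0
  refine (Module.finrank_zero_iff (R := k)).1 ?_
  rw [finrank_quot_tensor k hC hL 0]
  by_contra h
  have := (H29RR.bounds_of_section (k := k) ((dim_subscheme C).trans hC.dim).le hP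
    (Module.nontrivial_of_finrank_pos (R := k) (Nat.pos_of_ne_zero h))).1
  rw [degOn_eq_deg k hC hL] at hd
  omega

theorem finrank_quot_zero [IsAlgClosed k] (hC : IsCurve C) :
    Module.finrank k (Coh.HH X (ClSub.quotMod C) 0) = 1 := by
  letI : C.subscheme.Over (Spec (CommRingCat.of k)) := ⟨C.subschemeι ≫ (X ↘ Spec (CommRingCat.of k))⟩
  haveI : IsProper (C.subscheme ↘ Spec (CommRingCat.of k)) :=
    inferInstanceAs (IsProper (C.subschemeι ≫ (X ↘ Spec (CommRingCat.of k))))
  haveI := hC.int
  haveI : (Coh.structureModule C.subscheme).IsQuasicoherent := H10Coh.isQuasicoherent_unit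
  show Module.finrank k (Coh.HH X ((Coh.push C.subschemeι).obj _) 0) = 1
  rw [Push.finrank_HH_push k C.subschemeι rfl _ 0]
  refine H28Vert.finrank_HH0_of_isIso k ?_
  haveI : Nonempty C.subscheme := inferInstance
  haveI : Nonempty ↥(⊤ : C.subscheme.Opens) := ⟨⟨Classical.arbitrary _, trivial⟩⟩
  haveI : Nontrivial (Coh.Γtop C.subscheme) := inferInstanceAs (Nontrivial Γ(C.subscheme, ⊤))
  let ψ := Coh.toGlobal (C.subscheme ↘ Spec (CommRingCat.of k))
  have hψ : Function.Bijective ψ :=
    ⟨RingHom.injective _, surjective_toGlobal (C.subscheme ↘ Spec (CommRingCat.of k))⟩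
  rw [ConcreteCategory.isIso_iff_bijective]
  exact (Function.Bijective.of_comp_iff _
    (ConcreteCategory.bijective_of_isIso (Scheme.ΓSpecIso (CommRingCat.of k)).inv)).1 hψ

theorem euler_le_one [IsAlgClosed k] (hdim : topologicalKrullDim X = 2) (hC : IsCurve C) :
    Curv2.euler k X (ClSub.quotMod C) ≤ 1 ∧
      (Curv2.euler k X (ClSub.quotMod C) = 1 ↔ Subsingleton (Coh.HH X (ClSub.quotMod C) 1)) := by
  haveI := H28Int.isNoetherian k (X := X)
  haveI := H10Coh.finite_HH_proper k X _ (isCoh_quot k C) 1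
  rw [euler_eq_sub' k hdim (isEffCartier_curve k hdim hC) (isCoh_quot k C) (support_quot k C).subset,
    finrank_quot_zero k hC, ← Module.finrank_zero_iff (R := k)]
  omega

/-- On a curve of genus zero, degree at least minus one kills the first cohomology. -/
theorem subsingleton_one_of_deg [IsAlgClosed k] (hdim : topologicalKrullDim X = 2) (hC : IsCurve C)
    (hg : Curv2.euler k X (ClSub.quotMod C) = 1) {L : X.Modules} (hL : PicF.IsInvertible L)
    (hd : -1 ≤ degOn k C L) : Subsingleton (Coh.HH X (CohB1.tensorMod (ClSub.quotMod C) L) 1) := by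
  haveI := H28Int.isNoetherian k (X := X)
  haveI := H10Coh.finite_HH_proper k X _ (H11Ample.isCoh_tensor (isCoh_quot k C) hL) 1
  by_cases hneg : degOn k C L < 0
  · have h0 := subsingleton_zero_of_neg k hC hL hneg
    have he := euler_eq_sub' k hdim (isEffCartier_curve k hdim hC) (H11Ample.isCoh_tensor (isCoh_quot k C) hL)
      (fun x hx => (support_quot k C).subset (H25Euler.support_tensor_subset _ L hx))
    rw [Module.finrank_zero_of_subsingleton (R := k)] at he
    refine (Module.finrank_zero_iff (R := k)).1 ?_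
    unfold degOn at hd hneg
    omega
  · letI : C.subscheme.Over (Spec (CommRingCat.of k)) := ⟨C.subschemeι ≫ (X ↘ Spec (CommRingCat.of k))⟩
    haveI : IsProper (C.subscheme ↘ Spec (CommRingCat.of k)) :=
      inferInstanceAs (IsProper (C.subschemeι ≫ (X ↘ Spec (CommRingCat.of k))))
    haveI := hC.int
    haveI : (Coh.structureModule C.subscheme).IsQuasicoherent := H10Coh.isQuasicoherent_unit
    have h0 := finrank_quot_zero k hC
    have h1 : Module.finrank k (Coh.HH X (ClSub.quotMod C) 1) = 0 :=
      @Module.finrank_zero_of_subsingleton k _ _ _ _ _ ((euler_le_one k hdim hC).2.1 hg)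
    rw [show ClSub.quotMod C = (Coh.push C.subschemeι).obj (Coh.structureModule C.subscheme) from rfl,
      Push.finrank_HH_push k C.subschemeι rfl _ 0] at h0
    rw [show ClSub.quotMod C = (Coh.push C.subschemeι).obj (Coh.structureModule C.subscheme) from rfl,
      Push.finrank_HH_push k C.subschemeι rfl _ 1] at h1
    obtain ⟨-, -, h⟩ := H29RR.genus_zero_h0 (k := k) ((dim_subscheme C).trans hC.dim).le h0 h1
      (H11Ample.isInvertible_pullback C.subschemeι hL) (by rw [← degOn_eq_deg k hC hL]; omega)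
    refine (Module.finrank_zero_iff (R := k)).1 ?_
    rw [finrank_quot_tensor k hC hL 1]
    exact @Module.finrank_zero_of_subsingleton k _ _ _ _ _ h

end curve

end Groth.Agent.H28Surf
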