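import Groth.Agent.H28Int.Surface
import Groth.Agent.H28Int.Num
import Groth.Agent.H28Int.Curves
import Groth.Agent.H11Ample.Pullback
import Groth.Agent.H11Ample.Tensor
import Groth.Agent.H11Sym.InvertibleInverse
import Groth.Agent.H10Coh.TensorBasics
import Groth.Agent.H28Int.Divisor

/-!
# Modules with sections everywhere are nef
-/

set_option autoImplicit false
set_option linter.style.haveILetI false
universe u

open CategoryTheory CategoryTheory.Limits AlgebraicGeometry Opposite TopologicalSpace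

namespace Groth.Agent.H28Surf

open Groth.Agent.H28Int H11Ample

variable {X : Scheme.{u}}

variable (k : Type u) [Field k] [X.Over (Spec (CommRingCat.of k))] [IsProper (X ↘ Spec (CommRingCat.of k))]

/-- A module generated by sections is nonnegative on integral curves. -/
theorem D_nonneg_integral {H H' : X.Modules} (hH : PicF.IsInvertible H)
    (eH : CohB1.tensorMod H H' ≅ Coh.structureModule X) (hg : ∀ x : X, ∃ g : Γ(H, ⊤), x ∈ gen H g)
    {Z : Scheme.{u}} (i : Z ⟶ X) [IsClosedImmersion i] [IsIntegral Z]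
    (hZ : topologicalKrullDim Z ≤ ((1 : ℕ) : WithBot ℕ∞)) :
    0 ≤ D k [H'] ((Coh.push i).obj (Coh.structureModule Z)) := by
  letI : Z.Over (Spec (CommRingCat.of k)) := ⟨i ≫ (X ↘ Spec (CommRingCat.of k))⟩
  haveI : IsProper (Z ↘ Spec (CommRingCat.of k)) :=
    inferInstanceAs (IsProper (i ≫ (X ↘ Spec (CommRingCat.of k))))
  haveI := isNoetherian k (X := X)
  haveI := isNoetherian k (X := Z)
  have hH' : PicF.IsInvertible H' :=
    H17.InvertibleTensor.isInvertible_of_tensor_iso H' H (H10Coh.Tw.commIso _ _ ≪≫ eH)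
  rw [Curves.D_push_affine k i rfl hH']
  obtain ⟨g, hxg⟩ := hg (i (genericPoint Z))
  let P := (Scheme.Modules.pullback i).obj H
  have hP : PicF.IsInvertible P := isInvertible_pullback i hH
  let g' : Γ(P, ⊤) := (1 : Γ(Z, ⊤)) • pullTop i g
  have hgen : gen P g' = i ⁻¹ᵁ gen H g := gen_smul_pullSect i hH g isUnit_one
  have hg' : g' ≠ 0 := by
    intro h0
    have hm : genericPoint Z ∈ gen P g' := by rw [hgen]; exact hxg
    rw [h0] at hm
    obtain ⟨V, e, hxV, he⟩ := exists_gen hP (genericPoint Z)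
    have h2 := (gen_inf_eq_basicOpen he (0 : Γ(P, ⊤)) 0 (by rw [map_zero, zero_smul])).le ⟨hm, hxV⟩
    rw [Scheme.basicOpen_zero] at h2
    exact h2
  let eP : CohB1.tensorMod P ((Scheme.Modules.pullback i).obj H') ≅ Coh.structureModule Z :=
    ((H16Derived.KFlat.Stalk.pullTensorLIso i H').app H).symm ≪≫
      (Scheme.Modules.pullback i).mapIso eH ≪≫ H16Derived.KFlat.Stalk.structurePullbackIso i
  obtain ⟨C, hC, hCd, -, -, hDC⟩ := Surface.exists_zero_locus k (l := []) (by simp) (by simpa using hZ) hP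
    (isInvertible_pullback i hH') eP hg'
  rw [hDC]
  exact (pos_of_ample k [] (by simp) C hC hCd).1

/-- A module generated by sections is nonnegative on one-dimensional coherent modules. -/
theorem D_nonneg_of_sections {H H' : X.Modules} (hH : PicF.IsInvertible H)
    (eH : CohB1.tensorMod H H' ≅ Coh.structureModule X) (hg : ∀ x : X, ∃ g : Γ(H, ⊤), x ∈ gen H g)
    (F₀ : X.Modules) (hF₀ : Coh.IsCoh F₀)
    (hd : topologicalKrullDim (CohB1.support F₀) ≤ ((1 : ℕ) : WithBot ℕ∞)) : 0 ≤ D k [H'] F₀ := by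
  haveI := isNoetherian k (X := X)
  have hH' : PicF.IsInvertible H' :=
    H17.InvertibleTensor.isInvertible_of_tensor_iso H' H (H10Coh.Tw.commIso _ _ ≪≫ eH)
  have hl : ∀ A ∈ [H'], PicF.IsInvertible A := List.forall_mem_singleton.2 hH'
  have hψ := isAddFn_D k [H'] hl
  refine LeadDev.devissage_induction (CohB1.support F₀) (fun G => 0 ≤ D k [H'] G)
    (fun A B ⟨e⟩ h => by rw [← hψ.congr e]; exact h) (fun A hA => (hψ.zero hA).ge)
    (fun S hS h₁ h₂ h₃ p₁ p₃ => by rw [hψ.add S hS h₁ h₂ h₃]; exact add_nonneg p₁ p₃) ?_ F₀ hF₀ le_rfl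
  intro Z i _ _ hrange _ I ι _ hI
  let ξ := i (genericPoint Z)
  have hrd : topologicalKrullDim (Set.range i) ≤ ((1 : ℕ) : WithBot ℕ∞) := (dim_le_of_subset hrange).trans hd
  have hcl : closure {ξ} = Set.range i := (LeadDev.range_eq_closure i (ξ := ξ) rfl).symm
  by_cases hne : IsZero I
  · exact (hψ.zero ((Coh.push i).map_isZero hne)).ge
  haveI : I.IsQuasicoherent := hI
  let φ := (Coh.push i).map ι
  have hA : Coh.IsCoh ((Coh.push i).obj (Coh.structureModule Z)) := LeadDev.isCoh_push_structure i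
  have hG : Coh.IsCoh ((Coh.push i).obj I) :=
    H10Coh.isCoh_of_mono φ (H10Coh.isQuasicoherent_pushforward i I) hA
  have hQ := H10Coh.isCoh_cokernel φ hG.1 hA
  have hS : (ShortComplex.mk φ (cokernel.π φ) (cokernel.condition φ)).ShortExact :=
    ShortComplex.ShortExact.mk' (ShortComplex.exact_cokernel φ) inferInstance inferInstance
  obtain ⟨W, hW, hξW, -⟩ := exists_isAffineOpen_mem_and_subset (U := (⊤ : X.Opens)) (x := ξ) trivial
  have hQ0 : D k [H'] (cokernel φ) = 0 := D_eq_zero k [H'] hl _ hQ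
    (dim_lt_of_notMem hcl hrd (H10Coh.isClosed_support _ hQ.2)
      (fun x hx => (support_push_structure_eq i).le (LeadDev.support_subset_of_epi (cokernel.π φ) hx))
      (LeadDev.notMem_support_cokernel φ hG.1 hA.1 hW hξW (LeadDev.surjAt_push_map i rfl I ι hI hne hW hξW)))
  have hadd := hψ.add _ hS hG hA hQ
  change D k [H'] ((Coh.push i).obj (Coh.structureModule Z)) =
    D k [H'] ((Coh.push i).obj I) + D k [H'] (cokernel φ) at hadd
  rw [hQ0, add_zero] at hadd
  rw [← hadd]
  exact D_nonneg_integral k hH eH hg i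
    (i.isClosedEmbedding.isEmbedding.toHomeomorph.isHomeomorph.topologicalKrullDim_eq.le.trans hrd)

end Groth.Agent.H28Surf
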