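import Groth.Agent.H28Contr.CechOne
import Groth.Agent.H10Coh.LocalizedH
import Groth.Agent.H10Coh.Proper2
import Groth.Agent.H28Vert.Chain

/-!
# Functions on an intersection of two opens modulo functions on the two opens
-/

set_option autoImplicit false
set_option linter.style.haveILetI false
set_option backward.isDefEq.respectTransparency.types false

universe u

open CategoryTheory CategoryTheory.Limits AlgebraicGeometry Opposite TopologicalSpace Polynomial

namespace Groth.Agent.H28Surf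

open H10Coh

attribute [local instance 10000] hasSheafifyAb hasWeakSheafifyAb hasExtAb enoughInjAb

variable {X : Scheme.{u}}

/-- The constants in the functions on an open. -/
noncomputable def cst {k : Type u} [Field k] (p : X ⟶ Spec (CommRingCat.of k)) (W : X.Opens) : k →+* Γ(X, W) :=
  (X.presheaf.map (homOfLE (le_top : W ≤ ⊤)).op).hom.comp (Coh.toGlobal p)

theorem cst_res {k : Type u} [Field k] (p : X ⟶ Spec (CommRingCat.of k)) {W W' : X.Opens} (h : W' ≤ W) (c : k) :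
    (X.presheaf.map (homOfLE h).op).hom (cst p W c) = cst p W' c :=
  rres_rres _ h _

theorem res_eval₂ {k : Type u} [Field k] (p : X ⟶ Spec (CommRingCat.of k)) {W W' : X.Opens} (h : W' ≤ W)
    (P : k[X]) (g : Γ(X, W)) :
    (X.presheaf.map (homOfLE h).op).hom (eval₂ (cst p W) g P) =
      eval₂ (cst p W') ((X.presheaf.map (homOfLE h).op).hom g) P := by
  rw [hom_eval₂]
  exact congrArg (fun φ => eval₂ φ _ P) (RingHom.ext fun c => cst_res p h c)

/-- On a proper scheme a polynomial in a function on the intersection of two covering opens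
splits between the two opens. -/
theorem exists_monic_split {k : Type u} [Field k] (p : X ⟶ Spec (CommRingCat.of k)) [IsProper p]
    (W₁ W₂ : X.Opens) (hcov : (⊤ : X.Opens) ≤ W₁ ⊔ W₂) (f : Γ(X, W₁ ⊓ W₂)) :
    ∃ (P : k[X]) (a : Γ(X, W₁)) (b : Γ(X, W₂)), P.Monic ∧ 0 < P.natDegree ∧
      eval₂ (cst p (W₁ ⊓ W₂)) f P = (X.presheaf.map (homOfLE inf_le_left).op).hom a +
        (X.presheaf.map (homOfLE inf_le_right).op).hom b := by
  classical
  letI : X.Over (Spec (CommRingCat.of k)) := ⟨p⟩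
  haveI : IsProper (X ↘ Spec (CommRingCat.of k)) := ‹IsProper p›
  let M : X.Modules := Coh.structureModule X
  let R : MRes X := MRes.inj M
  have hex : ∀ n : ℕ, ∃ (e : Γ(R.I 0, W₁)) (z : Γ(R.Z 1, (⊤ : X.Opens))),
      rs _ inf_le_left e = iA R 0 (W₁ ⊓ W₂) (show Γ(R.Z 0, W₁ ⊓ W₂) from f ^ (n + 1)) ∧
      rs _ le_top z = pA R 0 W₁ e ∧ rs (R.Z 1) (le_top : W₂ ≤ ⊤) z = 0 := by
    intro n
    obtain ⟨e, he⟩ := exists_rs_eq R 0 (inf_le_left : W₁ ⊓ W₂ ≤ W₁)
      (iA R 0 (W₁ ⊓ W₂) (show Γ(R.Z 0, W₁ ⊓ W₂) from f ^ (n + 1)))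
    obtain ⟨w, hw₁, hw₂⟩ := glue_two (R.Z 1) (pA R 0 W₁ e) (0 : Γ(R.Z 1, W₂)) (by
      rw [← pA_rs, he, pA_iA, map_zero])
    refine ⟨e, rs _ hcov w, he, ?_, ?_⟩
    · rw [rs_rs]; exact hw₁
    · rw [rs_rs]; exact hw₂
  choose e z he hz₁ hz₂ using hex
  haveI hfin : Module.Finite k (Coh.HH X M 1) :=
    H10Coh.finite_HH_proper k X M (H10Coh.isCoh_structureModule' X) 1
  let cl : Γ(R.Z 1, (⊤ : X.Opens)) → Coh.HH X M 1 := fun z => (HHEquiv M 1).symm (mcls R 1 ⊤ z)
  have hcl : ∀ (c : k) (w : Γ(R.Z 1, (⊤ : X.Opens))),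
      c • cl w = cl (gres (globA (A := k) (X := X) c) ⊤ • w) := fun c w => by
    refine (HHEquiv M 1).injective ?_
    show HHEquiv M 1 (c • (HHEquiv M 1).symm _) = HHEquiv M 1 ((HHEquiv M 1).symm _)
    rw [AddEquiv.apply_symm_apply]
    refine (HHEquiv_smul M 1 (globA (A := k) (X := X) c) _).trans ?_
    rw [AddEquiv.apply_symm_apply]
    exact smulH_mcls R 1 ⊤ _ w
  obtain ⟨N, c, hN, hsum⟩ : ∃ (N : ℕ) (c : ℕ → k), c N = 1 ∧
      ∑ i ∈ Finset.range (N + 1), c i • cl (z i) = 0 := by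
    let v : Fin (Module.finrank k (Coh.HH X M 1) + 1) → Coh.HH X M 1 := fun i => cl (z i)
    have hdep : ¬ LinearIndependent k v := fun h => by
      have := h.fintype_card_le_finrank
      simp at this
    rw [Fintype.linearIndependent_iff] at hdep
    push Not at hdep
    obtain ⟨g, hg, i₀, hi₀⟩ := hdep
    let S := Finset.univ.filter fun i => g i ≠ 0
    have hS : S.Nonempty := ⟨i₀, Finset.mem_filter.2 ⟨Finset.mem_univ _, hi₀⟩⟩
    let m := S.max' hS
    have hm : g m ≠ 0 := (Finset.mem_filter.1 (Finset.max'_mem S hS)).2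
    refine ⟨m, fun i => if h : i < Module.finrank k (Coh.HH X M 1) + 1 then (g m)⁻¹ * g ⟨i, h⟩ else 0, ?_, ?_⟩
    · simp only [dif_pos m.2]; exact inv_mul_cancel₀ hm
    have hext : ∑ i ∈ Finset.range (Module.finrank k (Coh.HH X M 1) + 1),
        (if h : i < Module.finrank k (Coh.HH X M 1) + 1 then (g m)⁻¹ * g ⟨i, h⟩ else 0) • cl (z i) = 0 := by
      rw [← Fin.sum_univ_eq_sum_range (fun i => (if h : i < Module.finrank k (Coh.HH X M 1) + 1 then
        (g m)⁻¹ * g ⟨i, h⟩ else 0) • cl (z i))]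
      rw [Finset.sum_congr rfl fun i _ => by rw [dif_pos i.2, mul_smul], ← Finset.smul_sum]
      rw [show ∑ i, g i • cl (z i) = 0 from hg, smul_zero]
    refine Eq.trans ?_ hext
    refine Finset.sum_subset (Finset.range_subset_range.2 m.2) fun i hi hi' => ?_
    have hib := Finset.mem_range.1 hi
    simp only [dif_pos hib]
    have : g ⟨i, hib⟩ = 0 := by
      by_contra hne
      exact hi' (Finset.mem_range.2 (Nat.lt_succ_of_le (Fin.le_def.1 (Finset.le_max' S ⟨i, hib⟩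
        (Finset.mem_filter.2 ⟨Finset.mem_univ _, hne⟩)))))
    rw [this, mul_zero, zero_smul]
  let gl : k → Γ(X, ⊤) := fun a => globA (A := k) (X := X) a
  have hZ : Bd R 1 (∑ i ∈ Finset.range (N + 1), gres (gl (c i)) ⊤ • z i) := by
    rw [← mcls_eq_zero_iff, map_sum]
    refine (HHEquiv M 1).symm.injective ?_
    refine (map_sum (HHEquiv M 1).symm.toAddMonoidHom _ _).trans (Eq.trans ?_ (map_zero _).symm)
    exact (Finset.sum_congr rfl fun i _ => (hcl (c i) (z i)).symm).trans hsum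
  obtain ⟨D, hD⟩ := hZ
  obtain ⟨a, ha⟩ := exists_iA_eq R 0 W₁
    (∑ i ∈ Finset.range (N + 1), gres (gl (c i)) W₁ • e i - rs _ le_top D) (by
    rw [map_sub, pA_rs, hD, map_sum, map_sum, sub_eq_zero]
    refine Finset.sum_congr rfl fun i _ => ?_
    rw [pA_smul, ← hz₁]
    refine Eq.symm ((Scheme.Modules.map_smul (R.Z 1) (homOfLE le_top) _ _).trans ?_)
    rw [gres_res]
    rfl)
  obtain ⟨b, hb⟩ := exists_iA_eq R 0 W₂ (rs _ le_top D) (by
    rw [pA_rs, hD, map_sum]
    refine Finset.sum_eq_zero fun i _ => ?_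
    refine (Scheme.Modules.map_smul (R.Z 1) (homOfLE le_top) _ _).trans ?_
    exact (congrArg _ (hz₂ i)).trans (smul_zero _))
  have hlow : (∑ i ∈ Finset.range N, C (c i) * Polynomial.X ^ (i + 1)).degree < ((N + 1 : ℕ) : WithBot ℕ) := by
    refine (Polynomial.degree_sum_le _ _).trans_lt ((Finset.sup_lt_iff (WithBot.bot_lt_coe _)).2 fun i hi => ?_)
    exact (Polynomial.degree_C_mul_X_pow_le (i + 1) (c i)).trans_lt
      (by exact_mod_cast Nat.succ_lt_succ (Finset.mem_range.1 hi))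
  have htop : ∑ i ∈ Finset.range (N + 1), C (c i) * Polynomial.X ^ (i + 1) =
      Polynomial.X ^ (N + 1) + ∑ i ∈ Finset.range N, C (c i) * Polynomial.X ^ (i + 1) := by
    rw [Finset.sum_range_succ, hN, map_one, one_mul, add_comm]
  refine ⟨∑ i ∈ Finset.range (N + 1), C (c i) * Polynomial.X ^ (i + 1), a, b, ?_, ?_, ?_⟩
  · rw [htop]; exact Polynomial.monic_X_pow_add hlow
  · have hd : (∑ i ∈ Finset.range (N + 1), C (c i) * Polynomial.X ^ (i + 1)).natDegree = N + 1 :=
      Polynomial.natDegree_eq_of_degree_eq_some (by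
        rw [htop, Polynomial.degree_add_eq_left_of_degree_lt (by rw [Polynomial.degree_X_pow]; exact hlow),
          Polynomial.degree_X_pow])
    omega
  apply iA_injective R 0 (W₁ ⊓ W₂)
  show iA R 0 _ (show Γ(R.Z 0, W₁ ⊓ W₂) from _) =
    iA R 0 _ (rs (R.Z 0) inf_le_left a + rs (R.Z 0) inf_le_right b)
  refine Eq.trans ?_ (map_add (iA R 0 (W₁ ⊓ W₂)) _ _).symm
  rw [iA_rs, iA_rs, ha, hb, map_sub, map_sum, rs_rs, rs_rs]
  simp only [eval₂_finsetSum, eval₂_mul, eval₂_C, eval₂_X_pow]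
  rw [sub_add_cancel]
  refine (map_sum (iA R 0 (W₁ ⊓ W₂)) (fun i => (show Γ(R.Z 0, W₁ ⊓ W₂) from
    cst p (W₁ ⊓ W₂) (c i) * f ^ (i + 1))) _).trans (Finset.sum_congr rfl fun i _ => ?_)
  refine Eq.trans (iA_smul R 0 (W₁ ⊓ W₂) (cst p (W₁ ⊓ W₂) (c i)) (show Γ(R.Z 0, W₁ ⊓ W₂) from f ^ (i + 1))) ?_
  rw [← he i]
  refine Eq.symm ((Scheme.Modules.map_smul (R.I 0) (homOfLE inf_le_left) _ _).trans ?_)
  rw [gres_res]
  rfl

end Groth.Agent.H28Surf
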