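import Groth.Agent.H28Int.Divisor
import Groth.Agent.H28Vert.Degree
import Groth.Agent.H29Blow.IdealMod
import Groth.Agent.H11Sym.InvertibleInverse

/-!
# Intersection numbers of curves on surfaces
-/

set_option autoImplicit false
set_option linter.style.haveILetI false
set_option backward.isDefEq.respectTransparency.types false
universe u

open CategoryTheory CategoryTheory.Limits AlgebraicGeometry Opposite TopologicalSpace
open Groth.Agent.H8Props.FieldDim (cdim)

namespace Groth.Agent.H28Surf

open Groth.Agent.H28Int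

variable (k : Type u) [Field k] {X : Scheme.{u}} [X.Over (Spec (CommRingCat.of k))]
  [IsProper (X ↘ Spec (CommRingCat.of k))]

/-- A divisor not containing a curve meets it nonnegatively. -/
theorem D_idealMod_nonneg {Y : Scheme.{u}} (j : Y ⟶ X) [IsClosedImmersion j] [IsIntegral Y]
    (hY : topologicalKrullDim Y ≤ ((1 : ℕ) : WithBot ℕ∞)) (J : X.IdealSheafData)
    (hJ : PicF.IsInvertible (ClSub.idealMod J)) (hgen : j (genericPoint Y) ∉ (J.support : Set X)) :
    0 ≤ D k [ClSub.idealMod J] ((Coh.push j).obj (Coh.structureModule Y)) := by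
  haveI := isNoetherian k (X := X)
  letI : Y.Over (Spec (CommRingCat.of k)) := ⟨j ≫ (X ↘ Spec (CommRingCat.of k))⟩
  haveI : IsProper (Y ↘ Spec (CommRingCat.of k)) :=
    inferInstanceAs (IsProper (j ≫ (X ↘ Spec (CommRingCat.of k))))
  obtain ⟨N', -, ⟨e⟩⟩ := H11Sym.exists_inverse hJ
  have hN' : PicF.IsInvertible N' :=
    H17.InvertibleTensor.isInvertible_of_tensor_iso N' (ClSub.idealMod J) e
  let ν := ClSub.idealModι J
  have hν := H25Euler.isIso_stalk_idealModι J hgen
  rw [H28Vert.D_eq_euler_tensor k j hJ hN' (H10Coh.Tw.commIso _ _ ≪≫ e) ν hν]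
  let E := (Coh.push j).obj (Coh.structureModule Y)
  have hO := H10Coh.isCoh_structureModule' X
  have hQ : Coh.IsCoh (cokernel ν) := H10Coh.isCoh_cokernel _ (H11Ample.isCoh_of_isInvertible hJ).1 hO
  have hE : Coh.IsCoh E := LeadDev.isCoh_push_structure j
  let T := (DCoh.tensorBi (X := X)).obj E
  have hT : Coh.IsCoh (CohB1.tensorMod E (cokernel ν)) :=
    H10Coh.isCoh_of_iso (PreservesCokernel.iso T ν).symm
      (H10Coh.isCoh_cokernel (T.map ν) (H11Ample.isCoh_tensor hE hJ).1
        (H10Coh.isCoh_of_iso (H10Coh.Tw.rightUnitIso E).symm hE))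
  have hs : CohB1.support (CohB1.tensorMod E (cokernel ν)) ⊆ Set.range j ∩ (J.support : Set X) := fun x hx =>
    ⟨(support_push_structure_eq j).le (H25Euler.support_tensor_subset E _ hx),
      (H28Vert.support_cokernel_idealModι J).le (H25Euler.support_tensor_subset (cokernel ν) E
        (LeadDev.support_subset_of_iso (H10Coh.Tw.commIso _ _) hx))⟩
  have hd : topologicalKrullDim (CohB1.support (CohB1.tensorMod E (cokernel ν))) < ((1 : ℕ) : WithBot ℕ∞) :=
    dim_lt_of_notMem (LeadDev.range_eq_closure j (ξ := j (genericPoint Y)) rfl).symm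
      ((IsHomeomorph.topologicalKrullDim_eq _ j.isClosedEmbedding.isEmbedding.toHomeomorph.isHomeomorph).symm.le.trans hY)
      (H10Coh.isClosed_support _ hT.2) (fun x hx => (hs hx).1) fun h => hgen (hs h).2
  refine (pos_of_ample k [] (by simp) _ hT ?_).1
  rcases hdim : topologicalKrullDim (CohB1.support (CohB1.tensorMod E (cokernel ν))) with _ | n
  · exact bot_le
  · rw [hdim] at hd
    have : n < ((0 + 1 : ℕ) : ℕ∞) := WithBot.coe_lt_coe.1 hd
    exact WithBot.coe_le_coe.2 (ENat.lt_natCast_add_one_iff.1 (by exact_mod_cast this))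

/-- The intersection symbol with a divisor is computed on its structure sheaf. -/
theorem intNum_idealMod (hd : topologicalKrullDim X ≤ ((2 : ℕ) : WithBot ℕ∞)) (I : X.IdealSheafData)
    (hI : PicF.IsInvertible (ClSub.idealMod I)) {B : X.Modules} (hB : PicF.IsInvertible B) :
    FGA.intNum k X 2 ![ClSub.idealMod I, B] (Coh.structureModule X) = D k [B] (ClSub.quotMod I) := by
  haveI := isNoetherian k (X := X)
  have hO := H10Coh.isCoh_structureModule' X
  have hl : ∀ A ∈ [B], PicF.IsInvertible A := by simpa using hB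
  rw [intNum_eq k hd _ (fun t => by fin_cases t <;> assumption) hO]
  show D k [B] _ - D k [B] (CohB1.tensorMod (ClSub.idealMod I) _) = _
  haveI := H10Coh.epi_toSubscheme I
  have hS := H10Coh.shortExact_kernel (ClSub.toSubscheme I)
  have hQ : Coh.IsCoh (ClSub.quotMod I) :=
    H10Coh.isCoh_of_iso (H28Vert.cokernelIdealModιIso I) (H10Coh.isCoh_cokernel _ (H11Ample.isCoh_of_isInvertible hI).1 hO)
  have hadd := (isAddFn_D k [B] hl).add _ hS (H11Ample.isCoh_of_isInvertible hI) hO hQ
  change D k [B] (Coh.structureModule X) = D k [B] (ClSub.idealMod I) + D k [B] (ClSub.quotMod I) at hadd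
  rw [(isAddFn_D k [B] hl).congr (H10Coh.Tw.rightUnitIso (ClSub.idealMod I))]
  omega

include k in
/-- A nonempty effective Cartier divisor on a surface contains a curve. -/
theorem exists_point_of_isEffCartier [IsIntegral X] (hdim : topologicalKrullDim X = 2) (F : X.IdealSheafData)
    (hF : FGA.IsEffCartier F) {x : X} (hx : x ∈ (F.support : Set X)) :
    ∃ w ∈ (F.support : Set X), cdim w = ((1 : ℕ) : WithBot ℕ∞) := by
  haveI := isNoetherian k (X := X)
  let f := X ↘ Spec (CommRingCat.of k)
  obtain ⟨U, hxU, a, ha, haU⟩ := hF x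
  have hU := U.2
  let A := Γ(X, U.1)
  haveI : Nonempty ↥U.1 := ⟨⟨x, hxU⟩⟩
  haveI : IsNoetherianRing A := IsLocallyNoetherian.component_noetherian U
  let P := hU.primeIdealOf ⟨x, hxU⟩
  have hmem : ∀ (z : PrimeSpectrum A), a ∈ z.asIdeal ↔ hU.fromSpec z ∈ (F.support : Set X) := by
    intro z
    have hzU : hU.fromSpec z ∈ U.1 := by
      have h : hU.fromSpec z ∈ Set.range hU.fromSpec := ⟨z, rfl⟩
      rwa [hU.range_fromSpec] at h
    refine Iff.trans ?_ (Scheme.IdealSheafData.mem_support_iff_of_mem (I := F) hzU).symm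
    rw [haU, Scheme.zeroLocus_span, Scheme.zeroLocus_singleton, Set.mem_compl_iff, SetLike.mem_coe]
    have h := congrArg (fun V => z ∈ V) (hU.fromSpec_preimage_basicOpen a)
    exact not_not.symm.trans (not_congr (Iff.of_eq h.symm))
  have hxP : a ∈ P.asIdeal := (hmem P).2 (by rw [hU.fromSpec_primeIdealOf]; exact hx)
  obtain ⟨p, hp, hpP⟩ := Ideal.exists_minimalPrimes_le ((Ideal.span_singleton_le_iff_mem _).2 hxP)
  haveI : p.IsPrime := hp.1.1
  let z : PrimeSpectrum A := ⟨p, hp.1.1⟩
  have hap : a ∈ p := hp.1.2 (Ideal.mem_span_singleton_self a)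
  refine ⟨hU.fromSpec z, (hmem z).1 hap, ?_⟩
  have hh : p.height = 1 := le_antisymm (Ideal.height_le_one_of_isPrincipal_of_mem_minimalPrimes _ _ hp) (by
    rw [← Ideal.height_span_singleton_eq_one_of_mem_nonZeroDivisors ha (fun hu => hp.1.1.ne_top
      (Ideal.eq_top_of_isUnit_mem _ hap hu))]
    exact Ideal.height_mono ((Ideal.span_singleton_le_iff_mem _).2 hap))
  let w := hU.fromSpec z
  have hwU : w ∈ U.1 := by
    have h : w ∈ Set.range hU.fromSpec := ⟨z, rfl⟩
    rwa [hU.range_fromSpec] at h
  letI := (X.presheaf.germ U.1 w hwU).hom.toAlgebra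
  haveI : IsLocalization.AtPrime (X.presheaf.stalk w) p := hU.isLocalization_stalk' z hwU
  have hst : ringKrullDim (X.presheaf.stalk w) = ((1 : ℕ) : WithBot ℕ∞) := by
    rw [IsLocalization.AtPrime.ringKrullDim_eq_height p (X.presheaf.stalk w), hh]
    rfl
  have h := H8Props.FieldDim.localDim_eq_stalk_add_cdim f w
  rw [H8Props.FieldDim.localDim_eq_dim_of_irreducible f w, hdim, hst, add_comm] at h
  exact H8Props.FieldDim.withBot_nat_cancel (m := 1) h.symm

/-- An ample module is positive on curves. -/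
theorem D_ample_pos {H H' : X.Modules} (hH : CohB1.IsAmple H) (e : CohB1.tensorMod H H' ≅ Coh.structureModule X)
    (F : X.Modules) (hF : Coh.IsCoh F) (hd : topologicalKrullDim (CohB1.support F) ≤ ((1 : ℕ) : WithBot ℕ∞)) :
    0 ≤ D k [H'] F ∧ ((∃ x ∈ CohB1.support F, ((1 : ℕ) : WithBot ℕ∞) ≤ cdim x) → 0 < D k [H'] F) :=
  pos_of_ample k [H'] (by simp only [List.mem_singleton, forall_eq]; exact ⟨H, hH, ⟨e⟩⟩) F hF hd

section curves

variable [IsIntegral X] [Smooth (X ↘ Spec (CommRingCat.of k))]

include k in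
theorem isInvertible_idealMod (hdim : topologicalKrullDim X = 2) (C : X.IdealSheafData) [IsIntegral C.subscheme]
    (hCd : topologicalKrullDim (C.support : Set X) = 1) : PicF.IsInvertible (ClSub.idealMod C) := by
  have h := H28Int.isInvertible_idealMod_curve k hdim C.subschemeι (C := C.subscheme) (by
    rw [IsHomeomorph.topologicalKrullDim_eq _ ((C.subschemeι.isClosedEmbedding.isEmbedding.toHomeomorph).trans
      (Homeomorph.setCongr C.range_subschemeι)).isHomeomorph]
    exact hCd)
  rwa [Scheme.IdealSheafData.ker_subschemeι] at h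

end curves

omit [X.Over (Spec (CommRingCat.of k))] [IsProper (X ↘ Spec (CommRingCat.of k))] in
theorem dim_subscheme (C : X.IdealSheafData) :
    topologicalKrullDim C.subscheme = topologicalKrullDim (C.support : Set X) :=
  IsHomeomorph.topologicalKrullDim_eq _ ((C.subschemeι.isClosedEmbedding.isEmbedding.toHomeomorph).trans
    (Homeomorph.setCongr C.range_subschemeι)).isHomeomorph

omit [X.Over (Spec (CommRingCat.of k))] [IsProper (X ↘ Spec (CommRingCat.of k))] in
/-- Different integral curves do not contain each other's generic points. -/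
theorem genericPoint_notMem_support {C C' : X.IdealSheafData} [IsIntegral C.subscheme] [IsIntegral C'.subscheme]
    (hd : topologicalKrullDim (C.support : Set X) = 1) (hd' : topologicalKrullDim (C'.support : Set X) = 1)
    (hne : C ≠ C') : C.subschemeι (genericPoint C.subscheme) ∉ (C'.support : Set X) := by
  intro h
  let ξ := C.subschemeι (genericPoint C.subscheme)
  have hcl : closure {ξ} = (C.support : Set X) :=
    (LeadDev.range_eq_closure C.subschemeι (ξ := ξ) rfl).symm.trans C.range_subschemeι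
  have hsub : (C.support : Set X) ⊆ C'.support := hcl ▸ closure_minimal (Set.singleton_subset_iff.2 h) C'.support.2
  let ξ' := C'.subschemeι (genericPoint C'.subscheme)
  have hcl' : closure {ξ'} = (C'.support : Set X) :=
    (LeadDev.range_eq_closure C'.subschemeι (ξ := ξ') rfl).symm.trans C'.range_subschemeι
  by_cases h' : ξ' ∈ (C.support : Set X)
  · have heq : (C.support : Set X) = C'.support :=
      hsub.antisymm (hcl' ▸ closure_minimal (Set.singleton_subset_iff.2 h') C.support.2)
    refine hne ?_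
    rw [← C.ker_subschemeι, ← C'.ker_subschemeι, H17.ker_eq_vanishingIdeal, H17.ker_eq_vanishingIdeal]
    simp only [C.range_subschemeι, C'.range_subschemeι, heq]
  · have hlt := H28Int.dim_lt_of_notMem hcl' (n := 1) hd'.le C.support.2 (fun x hx => hsub hx) h'
    exact absurd hd hlt.ne

end Groth.Agent.H28Surf

namespace Groth.Agent.H28Surf

/-- Splitting a combination into effective parts with a form nonnegative off the diagonal. -/
theorem pos_part_cases {r : ℕ} (M : Fin r → Fin r → ℤ) (hoff : ∀ i j, i ≠ j → 0 ≤ M i j) (s : Fin r → ℤ) :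
    ∑ i, ∑ j, (s i ⊔ 0) * (-s i ⊔ 0) * M i j = 0 ∧
      0 ≤ ∑ i, ∑ j, (-s i ⊔ 0) * (s j ⊔ 0) * M i j := by
  refine ⟨Finset.sum_eq_zero fun i _ => Finset.sum_eq_zero fun j _ => ?_,
    Finset.sum_nonneg fun i _ => Finset.sum_nonneg fun j _ => ?_⟩
  · rcases le_total (s i) 0 with h | h
    · simp [max_eq_right h]
    · simp [max_eq_right (neg_nonpos.2 h)]
  · rcases eq_or_ne i j with rfl | hij
    · rcases le_total (s i) 0 with h | h
      · simp [max_eq_right h]
      · simp [max_eq_right (neg_nonpos.2 h)]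
    · exact mul_nonneg (mul_nonneg (le_max_right _ _) (le_max_right _ _)) (hoff i j hij)

theorem quad_split {r : ℕ} (M : Fin r → Fin r → ℤ) (s v : Fin r → ℤ) :
    ∑ j, v j * ∑ i, s i * M i j =
      (∑ i, ∑ j, (s i ⊔ 0) * v j * M i j) - ∑ i, ∑ j, (-s i ⊔ 0) * v j * M i j := by
  simp only [Finset.mul_sum, ← Finset.sum_sub_distrib]
  rw [Finset.sum_comm]
  refine Finset.sum_congr rfl fun i _ => Finset.sum_congr rfl fun j _ => ?_
  rcases le_total (s i) 0 with h | h
  · rw [max_eq_right h, max_eq_left (neg_nonneg.2 h)]; ring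
  · rw [max_eq_left h, max_eq_right (neg_nonpos.2 h)]; ring

end Groth.Agent.H28Surf
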