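import Groth.Agent.H28Surf.Pair

/-!
# Quadratic growth of sections
-/

set_option autoImplicit false
set_option linter.style.haveILetI false
set_option linter.unusedSectionVars false
set_option backward.isDefEq.respectTransparency.types false
universe u

open CategoryTheory CategoryTheory.Limits AlgebraicGeometry Opposite TopologicalSpace

namespace Groth.Agent.H28Surf

open Groth.Agent.H28Int

variable {X : Scheme.{u}} (k : Type u) [Field k] [X.Over (Spec (CommRingCat.of k))]
  [IsProper (X ↘ Spec (CommRingCat.of k))] [Smooth (X ↘ Spec (CommRingCat.of k))] [IsIntegral X]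

include k

/-- Sections of powers of a class of positive square meeting an ample one positively grow quadratically. -/
theorem eventually_quadratic [IsAlgClosed k] (hdim : topologicalKrullDim X = 2) {H L : X.Modules}
    (hH : CohB1.IsAmple H) (hL : PicF.IsInvertible L) (hLH : 0 < pr k L H) (hLL : 0 < pr k L L) :
    ∃ N : ℕ, ∀ n : ℕ, N ≤ n →
      (n : ℤ) ^ 2 * pr k L L < 4 * Module.finrank k (Coh.HH X (CohB1.tensorPow L n) 0) := by
  haveI := H28Int.isNoetherian k (X := X)
  haveI : X.IsSeparated := ⟨by
    rw [show terminal.from X = (X ↘ Spec (CommRingCat.of k)) ≫ terminal.from _ from terminal.hom_ext _ _]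
    infer_instance⟩
  obtain ⟨c, hc⟩ := exists_h2_vanish_ample k hdim hH
  have hHi := (H11Ample.isAmple_iff.1 hH).1
  let a := Curv2.euler k X L - Curv2.euler k X (Coh.structureModule X)
  let b := Curv2.euler k X (Coh.structureModule X)
  let e := pr k L L
  let N := c.natAbs + 4 * a.natAbs + 4 * b.natAbs + 2 * e.natAbs + 5
  refine ⟨N, fun n hn => ?_⟩
  have hn' : (N : ℤ) ≤ n := by exact_mod_cast hn
  have hN : (N : ℤ) = |c| + 4 * |a| + 4 * |b| + 2 * |e| + 5 := by push_cast [N, Int.natCast_natAbs]; ring
  have hn0 : (0 : ℤ) ≤ n := Int.natCast_nonneg n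
  show (n : ℤ) ^ 2 * e < _
  let M := CohB1.tensorPow L n
  have hM : PicF.IsInvertible M := H11Ample.isInvertible_tensorPow hL n
  have hMc := H11Ample.isCoh_of_isInvertible hM
  haveI h2 : Subsingleton (Coh.HH X M 2) := hc M hM (by
    rw [pr_pow_left k hdim hL hHi]
    nlinarith [le_abs_self c, abs_nonneg a, abs_nonneg b, abs_nonneg e,
      mul_le_mul_of_nonneg_left (show (1 : ℤ) ≤ pr k L H by omega) hn0])
  have htop : ∀ p, 3 ≤ p → Subsingleton (Coh.HH X M p) := fun p hp => by
    haveI := subsingleton_HnM_of_support (⊤ : Closeds X) 2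
      (Topology.IsInducing.subtypeVal.topologicalKrullDim_le.trans hdim.le) M hMc.1 (fun _ _ => trivial) p (by omega)
    exact (H10Coh.HHEquiv M p).toEquiv.subsingleton
  have hchi := euler_pow k hdim hL n
  have heq : Curv2.euler k X M = (Module.finrank k (Coh.HH X M 0) : ℤ) - Module.finrank k (Coh.HH X M 1) := by
    rw [H25Euler.euler_eq_sum M 3 fun p hp => htop p hp, Finset.sum_range_succ, Finset.sum_range_succ,
      Finset.sum_range_one, Module.finrank_zero_of_subsingleton (R := k) (M := Coh.HH X M 2)]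
    simp
    ring
  show _ < 4 * (Module.finrank k (Coh.HH X M 0) : ℤ)
  have hle : Curv2.euler k X M ≤ Module.finrank k (Coh.HH X M 0) := by omega
  have h3 : (1 : ℤ) ≤ e := by show 1 ≤ pr k L L; omega
  have h6 := mul_le_mul_of_nonneg_left (neg_abs_le a) hn0
  have h8 := neg_abs_le b
  have h1 : (4 * |a| + 4 * |b| + 2 * |e| + 5) ≤ (n : ℤ) := by linarith [abs_nonneg c]
  have h5 := mul_le_mul_of_nonneg_left h1 hn0
  have h4 := mul_le_mul_of_nonneg_left h1 (mul_nonneg hn0 (show (0 : ℤ) ≤ e - 1 by omega))
  have habs : |e| = e := abs_of_nonneg (by omega)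
  change 2 * Curv2.euler k X M = 2 * b + 2 * n * a + _ * e at hchi
  generalize Curv2.euler k X M = E at hchi hle
  generalize (Module.finrank k (Coh.HH X M 0) : ℤ) = r at hle ⊢
  clear_value a b e
  rw [habs] at h1 h4 h5
  nlinarith [abs_nonneg a, abs_nonneg b, abs_nonneg c, mul_nonneg hn0 (abs_nonneg b)]

end Groth.Agent.H28Surf
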