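import Groth.Agent.H28Surf.Artin

/-!
# Computation sequences of cycles
-/

set_option autoImplicit false
set_option linter.style.haveILetI false
set_option linter.unusedSectionVars false
set_option backward.isDefEq.respectTransparency.types false
universe u

open CategoryTheory CategoryTheory.Limits AlgebraicGeometry Opposite TopologicalSpace

namespace Groth.Agent.H28Surf

open Groth.Agent.H28Int

/-- Every proper part of the cycle meets one of the remaining components positively. -/
def HasSteps (k : Type u) [Field k] {X : Scheme.{u}} [X.Over (Spec (CommRingCat.of k))]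
    (M : Multiset X.IdealSheafData) : Prop :=
  ∀ N ≤ M, N ≠ 0 → N.prod ≠ M.prod → ∃ C, C ::ₘ N ≤ M ∧ 0 < dot k N.prod C

variable {X : Scheme.{u}} (k : Type u) [Field k] [X.Over (Spec (CommRingCat.of k))]
  [IsProper (X ↘ Spec (CommRingCat.of k))] [Smooth (X ↘ Spec (CommRingCat.of k))] [IsIntegral X]

include k

theorem mul_le_left' (A B : X.IdealSheafData) : A * B ≤ A := fun U => by
  rw [Scheme.IdealSheafData.ideal_mul, Pi.mul_apply]
  exact Ideal.mul_le_left (I := A.ideal U) (J := B.ideal U) |>.trans le_rfl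

/-- Induction along a computation sequence. -/
theorem chain_induction {M : Multiset X.IdealSheafData} (hsteps : HasSteps k M) {C₀ : X.IdealSheafData} (hC₀ : C₀ ∈ M)
    (P : X.IdealSheafData → Prop) (h₁ : P C₀)
    (hs : ∀ (N : Multiset X.IdealSheafData) (C : X.IdealSheafData), C ::ₘ N ≤ M → N ≠ 0 → 0 < dot k N.prod C →
      P N.prod → P (N.prod * C)) : P M.prod := by
  suffices ∀ (n : ℕ) (N : Multiset X.IdealSheafData), M.card - N.card = n → N ≤ M → N ≠ 0 → P N.prod → P M.prod from
    this _ {C₀} rfl (Multiset.singleton_le.2 hC₀) (Multiset.singleton_ne_zero _) (by rwa [Multiset.prod_singleton])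
  intro n
  induction n using Nat.strong_induction_on with
  | _ n ih =>
  intro N hn hle h0 hP
  by_cases he : N.prod = M.prod
  · rwa [← he]
  obtain ⟨C, hC, hd⟩ := hsteps N hle h0 he
  have hlt : N.card < M.card := lt_of_lt_of_le (by simp) (Multiset.card_le_card hC)
  refine ih _ (by rw [← hn, Multiset.card_cons]; omega) (C ::ₘ N) rfl hC (Multiset.cons_ne_zero) ?_
  rw [Multiset.prod_cons, mul_comm]
  exact hs N C hC h0 hd hP

variable (hdim : topologicalKrullDim X = 2)

include hdim

/-- A numerically connected cycle has computation sequences. -/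
theorem hasSteps_of_numConnected {M : Multiset X.IdealSheafData} (hM : ∀ C ∈ M, IsCurve C)
    (hnc : ∀ D₁ D₂ : X.IdealSheafData, FGA.IsEffCartier D₁ → FGA.IsEffCartier D₂ → D₁ ≠ ⊤ → D₂ ≠ ⊤ →
      M.prod = D₁ * D₂ → 0 < dot k D₁ D₂) : HasSteps k M := by
  classical
  intro N hle h0 hne
  let R := M - N
  have hN : ∀ C ∈ N, IsCurve C := fun C hC => hM C (Multiset.mem_of_le hle hC)
  have hR : ∀ C ∈ R, IsCurve C := fun C hC => hM C (Multiset.mem_of_le (Multiset.sub_le_self _ _) hC)
  have hsplit : M.prod = N.prod * R.prod := by rw [← Multiset.prod_add, add_tsub_cancel_of_le hle]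
  have hR0 : R ≠ 0 := fun h => hne (by
    have := add_tsub_cancel_of_le hle
    change N + R = M at this
    rw [h, add_zero] at this
    rw [this])
  have hpos := hnc N.prod R.prod (isEffCartier_prod k hdim N hN) (isEffCartier_prod k hdim R hR)
    (prod_ne_top k hN h0) (prod_ne_top k hR hR0) hsplit
  rw [dot_prod_right k hdim hR (isEffCartier_prod k hdim N hN)] at hpos
  obtain ⟨C, hC, hd⟩ : ∃ C ∈ R, 0 < dot k N.prod C := by
    by_contra hcon
    push Not at hcon
    exact absurd hpos (not_lt.2 ((Multiset.sum_map_le_sum_map _ (fun _ => (0 : ℤ)) hcon).trans (by simp)))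
  refine ⟨C, ?_, hd⟩
  calc C ::ₘ N = N + {C} := by rw [add_comm, Multiset.singleton_add]
    _ ≤ N + R := add_le_add le_rfl (Multiset.singleton_le.2 hC)
    _ = M := add_tsub_cancel_of_le hle

/-- Sections on a cycle with a computation sequence of a module of nonpositive degrees. -/
theorem finrank_zero_le_one [IsAlgClosed k] {M : Multiset X.IdealSheafData} (hM : ∀ C ∈ M, IsCurve C) (hM0 : M ≠ 0)
    (hsteps : HasSteps k M) {L : X.Modules} (hL : PicF.IsInvertible L) (hdeg : ∀ C ∈ M, degOn k C L ≤ 0) :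
    Module.finrank k (Coh.HH X (CohB1.tensorMod (ClSub.quotMod M.prod) L) 0) ≤ 1 := by
  haveI := H28Int.isNoetherian k (X := X)
  obtain ⟨C₀, hC₀⟩ := Multiset.exists_mem_of_ne_zero hM0
  refine chain_induction k hsteps hC₀
    (fun A => Module.finrank k (Coh.HH X (CohB1.tensorMod (ClSub.quotMod A) L) 0) ≤ 1) ?_ fun N C hle hN0 hd hP => ?_
  · have hC := hM C₀ hC₀
    by_cases hneg : degOn k C₀ L < 0
    · rw [@Module.finrank_zero_of_subsingleton k _ _ _ _ _ (subsingleton_zero_of_neg k hC hL hneg)]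
      exact zero_le_one
    letI : C₀.subscheme.Over (Spec (CommRingCat.of k)) := ⟨C₀.subschemeι ≫ (X ↘ Spec (CommRingCat.of k))⟩
    haveI : IsProper (C₀.subscheme ↘ Spec (CommRingCat.of k)) :=
      inferInstanceAs (IsProper (C₀.subschemeι ≫ (X ↘ Spec (CommRingCat.of k))))
    haveI := hC.int
    haveI : (Coh.structureModule C₀.subscheme).IsQuasicoherent := H10Coh.isQuasicoherent_unit
    show Module.finrank k (Coh.HH X (CohB1.tensorMod (ClSub.quotMod C₀) L) 0) ≤ 1
    rw [finrank_quot_tensor k hC hL 0]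
    by_contra h
    have hb := (H29RR.bounds_of_section (k := k) ((dim_subscheme C₀).trans hC.dim).le
      (H11Ample.isInvertible_pullback C₀.subschemeι hL)
      (Module.nontrivial_of_finrank_pos (R := k) (by omega))).2.1
    have h1 := finrank_quot_zero k hC
    rw [show ClSub.quotMod C₀ = (Coh.push C₀.subschemeι).obj (Coh.structureModule C₀.subscheme) from rfl,
      Push.finrank_HH_push k C₀.subschemeι rfl _ 0] at h1
    have := hdeg C₀ hC₀
    rw [degOn_eq_deg k hC hL] at this
    omega
  · have hC := hM C (Multiset.mem_of_le hle (Multiset.mem_cons_self C N))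
    have hN : ∀ D ∈ N, IsCurve D := fun D hD => hM D (Multiset.mem_of_le hle (Multiset.mem_cons_of_mem hD))
    have hNe := isEffCartier_prod k hdim N hN
    have hCe := isEffCartier_curve k hdim hC
    obtain ⟨S, hS, ⟨e₁⟩, e₂, e₃⟩ := exists_seq k C N.prod hCe hNe hL
    have hL' := H11Ample.isInvertible_tensor (isInvertible_ideal k hNe) hL
    have h0 : Module.finrank k (Coh.HH X S.X₁ 0) = 0 := by
      rw [(H29RR.hhIso (k := k) e₁ 0).finrank_eq]
      refine @Module.finrank_zero_of_subsingleton k _ _ _ _ _ (subsingleton_zero_of_neg k hC hL' ?_)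
      rw [degOn_tensor k hdim hCe (isInvertible_ideal k hNe) hL, degOn_ideal k hdim hNe hCe]
      have := hdeg C (Multiset.mem_of_le hle (Multiset.mem_cons_self C N))
      omega
    have h := finrank_zero_le k hS
      (H10Coh.isCoh_of_iso e₁.symm (H11Ample.isCoh_tensor (isCoh_quot k C) hL'))
      (e₂ ▸ H11Ample.isCoh_tensor (isCoh_quot k _) hL) (e₃ ▸ H11Ample.isCoh_tensor (isCoh_quot k _) hL)
    rw [h0, e₂, e₃, zero_add] at h
    exact h.trans hP

/-- Functions on a cycle with a computation sequence are constants. -/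
theorem finrank_zero_eq_one [IsAlgClosed k] {M : Multiset X.IdealSheafData} (hM : ∀ C ∈ M, IsCurve C) (hM0 : M ≠ 0)
    (hsteps : HasSteps k M) : Module.finrank k (Coh.HH X (ClSub.quotMod M.prod) 0) = 1 := by
  refine le_antisymm ?_ ?_
  · rw [← (H29RR.hhIso (k := k) (H10Coh.Tw.rightUnitIso (ClSub.quotMod M.prod)) 0).finrank_eq]
    exact finrank_zero_le_one k hdim hM hM0 hsteps
      (H11Ample.isInvertible_structureModule (X := X)) fun C _ => (degOn_structure k C).le
  · obtain ⟨C, hC⟩ := Multiset.exists_mem_of_ne_zero hM0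
    obtain ⟨x, hx⟩ := IsCurve.nonempty k (hM C hC)
    exact one_le_finrank_zero k hdim ⟨x, (mem_support_prod k).2 ⟨C, hC, hx⟩⟩

/-- A computation sequence of genus zero kills the first cohomology of modules of nonnegative degrees. -/
theorem subsingleton_one_of_chain [IsAlgClosed k] {M : Multiset X.IdealSheafData} (hM : ∀ C ∈ M, IsCurve C) (hM0 : M ≠ 0)
    (hsteps : HasSteps k M) (hχ : Curv2.euler k X (ClSub.quotMod M.prod) = 1) {L : X.Modules}
    (hL : PicF.IsInvertible L) (hdeg : ∀ C ∈ M, 0 ≤ degOn k C L) :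
    Subsingleton (Coh.HH X (CohB1.tensorMod (ClSub.quotMod M.prod) L) 1) := by
  haveI := H28Int.isNoetherian k (X := X)
  obtain ⟨C₀, hC₀⟩ := Multiset.exists_mem_of_ne_zero hM0
  refine (chain_induction k hsteps hC₀ (fun A => Curv2.euler k X (ClSub.quotMod A) ≤ 1 ∧
    (1 ≤ Curv2.euler k X (ClSub.quotMod A) → Subsingleton (Coh.HH X (CohB1.tensorMod (ClSub.quotMod A) L) 1)))
    ⟨(euler_le_one k hdim (hM C₀ hC₀)).1, fun h => subsingleton_one_of_deg k hdim (hM C₀ hC₀)
      (le_antisymm (euler_le_one k hdim (hM C₀ hC₀)).1 h) hL (by have := hdeg C₀ hC₀; omega)⟩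
    fun N C hle hN0 hd hP => ?_).2 hχ.ge
  have hC := hM C (Multiset.mem_of_le hle (Multiset.mem_cons_self C N))
  have hN : ∀ D ∈ N, IsCurve D := fun D hD => hM D (Multiset.mem_of_le hle (Multiset.mem_cons_of_mem hD))
  have hNe := isEffCartier_prod k hdim N hN
  have hCe := isEffCartier_curve k hdim hC
  have he := euler_mul k hdim hNe hCe
  have h1 := (euler_le_one k hdim hC).1
  refine ⟨by have := hP.1; omega, fun hge => ?_⟩
  have hge' : 1 ≤ Curv2.euler k X (ClSub.quotMod (N.prod * C)) := hge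
  have hNχ := hP.1
  obtain ⟨S, hS, ⟨e₁⟩, e₂, e₃⟩ := exists_seq k C N.prod hCe hNe hL
  have hL' := H11Ample.isInvertible_tensor (isInvertible_ideal k hNe) hL
  haveI := subsingleton_one_of_deg k hdim hC (L := CohB1.tensorMod (ClSub.idealMod N.prod) L) (by omega) hL' (by
    rw [degOn_tensor k hdim hCe (isInvertible_ideal k hNe) hL, degOn_ideal k hdim hNe hCe]
    have := hdeg C (Multiset.mem_of_le hle (Multiset.mem_cons_self C N))
    omega)
  have h := subsingleton_HH_ext k hS 1 (H29RR.hhIso (k := k) e₁ 1).toEquiv.subsingleton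
    (e₃ ▸ hP.2 (by omega))
  rw [e₂] at h
  exact h

/-- Multiples of a cycle with a computation sequence of genus zero and nonpositive degrees. -/
theorem subsingleton_one_pow [IsAlgClosed k] {M : Multiset X.IdealSheafData} (hM : ∀ C ∈ M, IsCurve C) (hM0 : M ≠ 0)
    (hsteps : HasSteps k M) (hχ : Curv2.euler k X (ClSub.quotMod M.prod) = 1)
    (hle : ∀ C ∈ M, dot k M.prod C ≤ 0) : ∀ m : ℕ,
    Subsingleton (Coh.HH X (ClSub.quotMod (m • M).prod) 1) := by
  intro m
  induction m with
  | zero => rw [zero_nsmul, Multiset.prod_zero]; exact subsingleton_HH_one_top k hdim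
  | succ m ih =>
    have hmM : ∀ C ∈ m • M, IsCurve C := fun C hC => hM C (Multiset.mem_of_mem_nsmul hC)
    have hA := isEffCartier_prod k hdim (m • M) hmM
    have hC := isEffCartier_prod k hdim M hM
    obtain ⟨S, hS, ⟨e₁⟩, e₂, e₃⟩ := exists_seq k M.prod (m • M).prod hC hA
      (H11Ample.isInvertible_structureModule (X := X))
    haveI := subsingleton_one_of_chain k hdim hM hM0 hsteps hχ
      (L := CohB1.tensorMod (ClSub.idealMod (m • M).prod) (Coh.structureModule X))
      (H11Ample.isInvertible_tensor (isInvertible_ideal k hA) (H11Ample.isInvertible_structureModule (X := X)))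
      fun D hD => by
        have hDe := isEffCartier_curve k hdim (hM D hD)
        rw [degOn_tensor k hdim hDe (isInvertible_ideal k hA) (H11Ample.isInvertible_structureModule (X := X)),
          degOn_structure k D, degOn_ideal k hdim hA hDe, dot_prod_left k hdim hmM hDe, Multiset.map_nsmul,
          Multiset.sum_nsmul, ← dot_prod_left k hdim hM hDe, nsmul_eq_mul, add_zero]
        exact neg_nonneg.2 (mul_nonpos_of_nonneg_of_nonpos (Nat.cast_nonneg m) (hle D hD))
    have h := subsingleton_HH_ext k hS 1 (H29RR.hhIso (k := k) e₁ 1).toEquiv.subsingleton (e₃ ▸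
      (H29RR.hhIso (k := k) (H10Coh.Tw.rightUnitIso (ClSub.quotMod (m • M).prod)) 1).toEquiv.subsingleton)
    rw [e₂] at h
    haveI := h
    rw [succ_nsmul, Multiset.prod_add]
    exact (H29RR.hhIso (k := k) (H10Coh.Tw.rightUnitIso (ClSub.quotMod ((m • M).prod * M.prod))) 1).symm.toEquiv.subsingleton

section fundamental

variable {r : ℕ} {C : Fin r → X.IdealSheafData} {M : Multiset X.IdealSheafData}

/-- The fundamental cycle has computation sequences. -/
theorem hasSteps_fundamental (hC : ∀ i, IsCurve (C i)) (hM : ∀ D ∈ M, IsCurve D)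
    (hs : (M.prod.support : Set X) ⊆ ⋃ i, ((C i).support : Set X))
    (hle : ∀ i, dot k M.prod (C i) ≤ 0)
    (hmin : ∀ Z : X.IdealSheafData, FGA.IsEffCartier Z → Z ≠ ⊤ → (Z.support : Set X) ⊆ ⋃ i, ((C i).support : Set X) →
      (∀ i, 0 ≤ degOn k (C i) (ClSub.idealMod Z)) → Z ≤ M.prod)
    (hall : ∀ i, C i ∈ M) : HasSteps k M := by
  classical
  intro N hNle hN0 hne
  have hN : ∀ D ∈ N, IsCurve D := fun D hD => hM D (Multiset.mem_of_le hNle hD)
  have hNe := isEffCartier_prod k hdim N hN
  have hNs : (N.prod.support : Set X) ⊆ ⋃ i, ((C i).support : Set X) := fun x hx => by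
    obtain ⟨D, hD, hxD⟩ := (mem_support_prod k).1 hx
    exact hs ((mem_support_prod k).2 ⟨D, Multiset.mem_of_le hNle hD, hxD⟩)
  obtain ⟨i, hi⟩ : ∃ i, 0 < dot k N.prod (C i) := by
    by_contra hcon
    push Not at hcon
    refine hne (le_antisymm (hmin _ hNe (prod_ne_top k hN hN0) hNs fun i => ?_) ?_)
    · rw [degOn_ideal k hdim hNe (isEffCartier_curve k hdim (hC i))]
      exact neg_nonneg.2 (hcon i)
    · conv_lhs => rw [← add_tsub_cancel_of_le hNle, Multiset.prod_add]
      exact mul_le_left' k _ _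
  refine ⟨C i, ?_, hi⟩
  rw [Multiset.le_iff_count]
  intro D
  have hcD : N.count D ≤ M.count D := Multiset.le_iff_count.1 hNle D
  by_cases hD : D = C i
  swap
  · rw [Multiset.count_cons_of_ne hD]; exact hcD
  rw [hD, Multiset.count_cons_self]
  by_contra hcon
  have hnot : C i ∉ M - N := fun h => by
    have := Multiset.count_pos.2 h
    rw [Multiset.count_sub] at this
    omega
  have hR : ∀ D ∈ M - N, IsCurve D := fun D hD => hM D (Multiset.mem_of_le (Multiset.sub_le_self _ _) hD)
  have h1 := dot_prod_nonneg k hdim hR (hC i) hnot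
  have h2 := hle i
  rw [← add_tsub_cancel_of_le hNle, Multiset.prod_add,
    dot_mul_left k hdim hNe (isEffCartier_prod k hdim _ hR) (isEffCartier_curve k hdim (hC i))] at h2
  omega

/-- A connected configuration is contained in every such cycle. -/
theorem mem_fundamental (hC : ∀ i, IsCurve (C i)) (hCinj : Function.Injective C) (hM : ∀ D ∈ M, IsCurve D)
    (hM0 : M ≠ 0) (hs : (M.prod.support : Set X) ⊆ ⋃ i, ((C i).support : Set X))
    (hle : ∀ i, dot k M.prod (C i) ≤ 0)
    (hconn : ∀ S : Finset (Fin r), S.Nonempty → Sᶜ.Nonempty → ∃ i ∈ S, ∃ j ∈ Sᶜ, dot k (C i) (C j) ≠ 0) :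
    ∀ i, C i ∈ M := by
  classical
  by_contra hcon
  push Not at hcon
  obtain ⟨i₁, hi₁⟩ := hcon
  obtain ⟨D, hD⟩ := Multiset.exists_mem_of_ne_zero hM0
  obtain ⟨i₀, rfl⟩ := mem_range_of_support_subset k hC hM hs hD
  obtain ⟨i, hi, j, hj, hij⟩ := hconn (Finset.univ.filter fun i => C i ∈ M)
    ⟨i₀, Finset.mem_filter.2 ⟨Finset.mem_univ _, hD⟩⟩
    ⟨i₁, Finset.mem_compl.2 fun h => hi₁ (Finset.mem_filter.1 h).2⟩
  have hiM : C i ∈ M := (Finset.mem_filter.1 hi).2
  have hjM : C j ∉ M := fun h => Finset.mem_compl.1 hj (Finset.mem_filter.2 ⟨Finset.mem_univ _, h⟩)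
  have hne : C i ≠ C j := fun h => hjM (h ▸ hiM)
  have h1 := dot_nonneg k hdim (hC i) (hC j) hne
  have hR : ∀ D ∈ M.erase (C i), IsCurve D := fun D hD => hM D (Multiset.mem_of_mem_erase hD)
  have h2 := dot_prod_nonneg k hdim hR (hC j) fun h => hjM (Multiset.mem_of_mem_erase h)
  have h3 := hle j
  rw [← Multiset.cons_erase hiM, Multiset.prod_cons, dot_mul_left k hdim (isEffCartier_curve k hdim (hC i))
    (isEffCartier_prod k hdim _ hR) (isEffCartier_curve k hdim (hC j))] at h3
  omega

end fundamental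

end Groth.Agent.H28Surf
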