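import Mathlib

/-!
# Negative definite integral forms over the reals
-/

set_option autoImplicit false

namespace Groth.Agent.H28Surf

variable {r : ℕ}

/-- An integral form negative on nonzero integral vectors is nonsingular over the reals. -/
theorem eq_zero_of_mulVec {M : Fin r → Fin r → ℤ}
    (h : ∀ a : Fin r → ℤ, a ≠ 0 → ∑ i, ∑ j, a i * a j * M i j < 0) {c : Fin r → ℝ}
    (hc : ∀ i, ∑ j, c j * (M i j : ℝ) = 0) : c = 0 := by
  classical
  let A : Matrix (Fin r) (Fin r) ℤ := Matrix.of M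
  have hdet : A.det ≠ 0 := by
    intro h0
    obtain ⟨v, hv, hAv⟩ := Matrix.exists_mulVec_eq_zero_iff.2 h0
    have hneg := h v hv
    have hz : ∑ i, ∑ j, v i * v j * M i j = 0 := Finset.sum_eq_zero fun i _ => by
      have h1 : ∑ j, M i j * v j = 0 := congrFun hAv i
      calc ∑ j, v i * v j * M i j = v i * ∑ j, M i j * v j := by
            rw [Finset.mul_sum]; exact Finset.sum_congr rfl fun j _ => by ring
        _ = 0 := by rw [h1, mul_zero]
    omega
  let f : ℤ →+* ℝ := Int.castRingHom ℝ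
  refine Matrix.eq_zero_of_mulVec_eq_zero (M := f.mapMatrix A) ?_ (funext fun i => ?_)
  · rw [← RingHom.map_det]
    exact Int.cast_ne_zero.2 hdet
  · rw [Matrix.mulVec, dotProduct]
    exact (Finset.sum_congr rfl fun j _ => mul_comm _ _).trans (hc i)

/-- An integral form negative on nonzero integral vectors is nonpositive on real vectors. -/
theorem quad_nonpos {M : Fin r → Fin r → ℤ}
    (h : ∀ a : Fin r → ℤ, a ≠ 0 → ∑ i, ∑ j, a i * a j * M i j < 0) (c : Fin r → ℝ) :
    ∑ i, ∑ j, c i * c j * (M i j : ℝ) ≤ 0 := by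
  classical
  have hrat : ∀ q : Fin r → ℚ, ∑ i, ∑ j, (q i : ℝ) * (q j : ℝ) * (M i j : ℝ) ≤ 0 := by
    intro q
    obtain ⟨N, hN⟩ := IsLocalization.exist_integer_multiples_of_finite (nonZeroDivisors ℤ) q
    choose a ha using hN
    have ha' : ∀ i, (a i : ℝ) = ((N : ℤ) : ℝ) * (q i : ℝ) := fun i => by
      have h1 : ((a i : ℤ) : ℚ) = ((N : ℤ) : ℚ) * q i := by simpa [Algebra.smul_def] using ha i
      exact_mod_cast h1
    have hN0 : ((N : ℤ) : ℝ) ≠ 0 := Int.cast_ne_zero.2 (nonZeroDivisors.ne_zero N.2)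
    have hle : ∑ i, ∑ j, a i * a j * M i j ≤ 0 := by
      by_cases ha0 : a = 0
      · simp [ha0]
      · exact (h a ha0).le
    have hle' : ((∑ i, ∑ j, a i * a j * M i j : ℤ) : ℝ) ≤ 0 := by exact_mod_cast hle
    push_cast at hle'
    simp only [ha'] at hle'
    have hfac : ∑ i, ∑ j, ((N : ℤ) : ℝ) * (q i : ℝ) * (((N : ℤ) : ℝ) * (q j : ℝ)) * (M i j : ℝ) =
        ((N : ℤ) : ℝ) ^ 2 * ∑ i, ∑ j, (q i : ℝ) * (q j : ℝ) * (M i j : ℝ) := by
      rw [Finset.mul_sum]
      refine Finset.sum_congr rfl fun i _ => ?_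
      rw [Finset.mul_sum]
      exact Finset.sum_congr rfl fun j _ => by ring
    rw [hfac] at hle'
    exact nonpos_of_mul_nonpos_right hle' (by positivity) |>.trans le_rfl
  have hd : DenseRange fun q : Fin r → ℚ => fun i => (q i : ℝ) :=
    DenseRange.piMap fun _ => Rat.denseRange_cast
  exact hd.induction_on c (isClosed_le (by fun_prop) continuous_const) hrat

end Groth.Agent.H28Surf
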