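import Groth.Agent.H28Surf.Cycle
import Groth.Agent.H28Surf.Twist
import Groth.Agent.H28Int.Push
import Groth.Agent.H29RR.Clifford
import Groth.Agent.H29RR.Consts
import Groth.Agent.S0051
import Groth.Agent.H28Reg.Projective

/-!
# Vanishing of the second cohomology of modules of large degree on a hyperplane curve
-/

set_option autoImplicit false
set_option linter.style.haveILetI false
set_option linter.unusedSectionVars false
set_option backward.isDefEq.respectTransparency.types false
universe u

open CategoryTheory CategoryTheory.Limits AlgebraicGeometry Opposite TopologicalSpace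

namespace Groth.Agent.H28Surf

open Groth.Agent.H28Int

variable {X : Scheme.{u}} (k : Type u) [Field k] [X.Over (Spec (CommRingCat.of k))]
  [IsProper (X ↘ Spec (CommRingCat.of k))] [Smooth (X ↘ Spec (CommRingCat.of k))] [IsIntegral X]

include k

/-- On an integral curve modules of large degree have no first cohomology. -/
theorem exists_deg_h1_vanish [IsAlgClosed k] {C : X.IdealSheafData} (hC : IsCurve C) :
    ∃ c : ℤ, ∀ N : X.Modules, PicF.IsInvertible N → c ≤ degOn k C N →
      Subsingleton (Coh.HH X (CohB1.tensorMod (ClSub.quotMod C) N) 1) := by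
  haveI := H28Int.isNoetherian k (X := X)
  haveI := hC.int
  let i := C.subschemeι
  letI : C.subscheme.Over (Spec (CommRingCat.of k)) := ⟨i ≫ (X ↘ Spec (CommRingCat.of k))⟩
  haveI : IsProper (C.subscheme ↘ Spec (CommRingCat.of k)) :=
    inferInstanceAs (IsProper (i ≫ (X ↘ Spec (CommRingCat.of k))))
  have hdim : topologicalKrullDim C.subscheme ≤ 1 := ((dim_subscheme C).trans hC.dim).le
  refine ⟨2 * (Curv2.genus k C.subscheme : ℤ) - 1, fun N hN hdeg => ?_⟩
  let P := (Scheme.Modules.pullback i).obj N
  have hP : PicF.IsInvertible P := H11Ample.isInvertible_pullback i hN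
  haveI : P.IsQuasicoherent := (H11Ample.isCoh_of_isInvertible hP).1
  haveI : (Coh.structureModule C.subscheme).IsQuasicoherent := H10Coh.isQuasicoherent_unit
  obtain ⟨e⟩ := nonempty_quot_tensor_iso k C hN
  have hd : Curv2.deg k C.subscheme P 1 = degOn k C N := by
    have e1 : Curv2.euler k X (CohB1.tensorMod (ClSub.quotMod C) N) = Curv2.euler k C.subscheme P := by
      rw [H25Euler.euler_congr e]
      exact Push.euler_push k i rfl P
    have e2 : Curv2.euler k X (ClSub.quotMod C) = Curv2.euler k C.subscheme (Coh.structureModule C.subscheme) :=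
      Push.euler_push k i rfl _
    show Curv2.euler k C.subscheme P - (1 : ℕ) * Curv2.euler k C.subscheme _ = _
    rw [degOn, e1, e2, Nat.cast_one, one_mul]
  haveI := H29RR.h1_vanish_of_deg (k := k) hdim (H29RR.finrank_h0_structure k C.subscheme) hP (by rw [hd]; exact hdeg)
  haveI := H10Coh.finite_HH_proper k X _ (H11Ample.isCoh_tensor (isCoh_quot k C) hN) 1
  refine (Module.finrank_zero_iff (R := k)).1 ?_
  rw [(H29RR.hhIso (k := k) e 1).finrank_eq, Push.finrank_HH_push k i rfl P 1]
  exact Module.finrank_zero_of_subsingleton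

/-- The degree on a curve of the module of an ample class. -/
theorem degOn_nonneg_of_ample (hdim : topologicalKrullDim X = 2) {C : X.IdealSheafData} (hC : FGA.IsEffCartier C)
    {L : X.Modules} (hL : CohB1.IsAmple L) : 0 ≤ degOn k C L := by
  haveI := H28Int.isNoetherian k (X := X)
  have hLi := (H11Ample.isAmple_iff.1 hL).1
  obtain ⟨L', hL', ⟨e⟩⟩ := H11Sym.exists_inverse hLi
  let e' : CohB1.tensorMod L L' ≅ Coh.structureModule X := H10Coh.Tw.commIso L L' ≪≫ e
  have h1 := (D_ample_pos k hL e' (ClSub.quotMod C) (isCoh_quot k C)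
    (by rw [support_quot k]; exact dim_support_le_one k hdim hC)).1
  have h2 := degOn_tensor k hdim hC hLi hL'
  rw [degOn_congr k C e', degOn_structure, degOn_eq k C L'] at h2
  omega

/-- Modules of large degree on an integral hyperplane curve have no second cohomology. -/
theorem exists_h2_vanish [IsAlgClosed k] (hdim : topologicalKrullDim X = 2) {C : X.IdealSheafData} (hC : IsCurve C)
    {L : X.Modules} (hL : CohB1.IsAmple L)
    (e : CohB1.tensorMod (ClSub.idealMod C) L ≅ Coh.structureModule X) :
    ∃ c : ℤ, ∀ M : X.Modules, PicF.IsInvertible M → c ≤ degOn k C M → Subsingleton (Coh.HH X M 2) := by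
  haveI := H28Int.isNoetherian k (X := X)
  obtain ⟨c, hc⟩ := exists_deg_h1_vanish k hC
  have hCe := isEffCartier_curve k hdim hC
  have hLi := (H11Ample.isAmple_iff.1 hL).1
  have hLd := degOn_nonneg_of_ample k hdim hCe hL
  refine ⟨c, fun M hM hdeg => ?_⟩
  obtain ⟨j₀, hj₀⟩ := (S0051.result k X (X ↘ Spec (CommRingCat.of k)) L hLi).1 hL M (H11Ample.isCoh_of_isInvertible hM)
  have hpow : ∀ j, PicF.IsInvertible (CohB1.tensorPow L j) := H11Ample.isInvertible_tensorPow hLi
  have hdegj : ∀ j, degOn k C (CohB1.tensorMod M (CohB1.tensorPow L j)) = degOn k C M + j * degOn k C L := by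
    intro j
    induction j with
    | zero =>
      rw [show CohB1.tensorPow L 0 = Coh.structureModule X from rfl, degOn_congr k C (H10Coh.Tw.rightUnitIso M)]
      simp
    | succ j ih =>
      rw [degOn_tensor k hdim hCe hM (hpow _), show CohB1.tensorPow L (j + 1) = CohB1.tensorMod (CohB1.tensorPow L j) L from rfl,
        degOn_tensor k hdim hCe (hpow j) hLi]
      rw [degOn_tensor k hdim hCe hM (hpow j)] at ih
      push_cast
      linarith
  have step : ∀ t j, j₀ ≤ j + t → Subsingleton (Coh.HH X (CohB1.tensorMod M (CohB1.tensorPow L j)) 2) := by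
    intro t
    induction t with
    | zero => exact fun j hj => hj₀ j hj 2 (by norm_num)
    | succ t ih =>
      intro j hj
      have h2 := ih (j + 1) (by omega)
      let N := CohB1.tensorMod M (CohB1.tensorPow L (j + 1))
      have hN : PicF.IsInvertible N := H11Ample.isInvertible_tensor hM (hpow _)
      have h1 : Subsingleton (Coh.HH X (CohB1.tensorMod (ClSub.quotMod C) N) 1) := hc N hN (by
        rw [hdegj]
        nlinarith [Int.natCast_nonneg (j + 1)])
      obtain ⟨S, hS, e₁, e₂, e₃⟩ := exists_restrict_seq k C hN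
      haveI h3 : Subsingleton (Coh.HH X S.X₃ 1) := e₃ ▸ h1
      haveI h4 : Subsingleton (Coh.HH X S.X₂ 2) := by
        rw [e₂]
        exact H28Reg.hh_iso (H10Coh.Tw.leftUnitIso N).symm 2 h2
      haveI := (H10Coh.HHEquiv S.X₃ 1).symm.toEquiv.subsingleton
      haveI := (H10Coh.HHEquiv S.X₂ 2).symm.toEquiv.subsingleton
      have h5 : Subsingleton (Coh.HH X S.X₁ 2) :=
        @Equiv.subsingleton _ _ (H10Coh.HHEquiv S.X₁ 2).toEquiv
          (subsingleton_X₁ (U := (⊤ : X.Opens)) (H10Coh.shortExact_sh hS) (n := 1) ‹_› ‹_›)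
      rw [e₁] at h5
      let eI : CohB1.tensorMod (ClSub.idealMod C) N ≅ CohB1.tensorMod M (CohB1.tensorPow L j) :=
        PicGrp.tensorModIso (Iso.refl _)
            ((H10Coh.Tw.assoc M (CohB1.tensorPow L j) L).symm ≪≫
              H10Coh.Tw.commIso (CohB1.tensorMod M (CohB1.tensorPow L j)) L) ≪≫
          (H10Coh.Tw.assoc _ _ _).symm ≪≫ PicGrp.tensorModIso e (Iso.refl _) ≪≫ H10Coh.Tw.leftUnitIso _
      exact H28Reg.hh_iso eI 2 h5
  exact H28Reg.hh_iso (H10Coh.Tw.rightUnitIso M) 2 (step j₀ 0 (by omega))

end Groth.Agent.H28Surf
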